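import Cfsg.Agent.H783.EX.Rank
import Cfsg.Agent.H758.EPX.Str

/-!
# S5745, the row `r.f4.5.L6(2)` (helper783)

`PSL₆(q')`, `q'` even, contains an elementary abelian group of order `q' ^ 9 > 64`, so it does not embed in `F₄(q)`,
`E₆(q)`, `²E₆(q)`, `q` odd.
-/

set_option autoImplicit false

namespace Cfsg.Agent.H783.EX

open Cfsg Cfsg.Lie Matrix Cfsg.Agent.H357.EP
open Cfsg.Agent.H284 Cfsg.Agent.H209.EPX Cfsg.Agent.H542.EPX

theorem not_inE6_of_hom {T A : Type*} [Group T] [Group A] [Finite A] (hA : ∀ a : A, a * a = 1) (f : A →* T)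
    (hf : Function.Injective f) (hc : 64 < Nat.card A) : ¬ InE6 T := by
  intro h
  have h1 : Nat.card f.range = Nat.card A := (Nat.card_congr (MonoidHom.ofInjective hf).toEquiv).symm
  refine h.no_seven f.range ?_ (by rwa [h1])
  rintro _ ⟨a, rfl⟩
  rw [← map_mul, hA, map_one]

section six

variable {F : Type*} [Field F]

/-- the unipotent radical of the stabiliser of a 3-space -/
def uSix : Multiplicative (Matrix (Fin 3) (Fin 3) F) →* Matrix.SpecialLinearGroup (Fin 6) F :=
  MonoidHom.mk' (fun A => ⟨Matrix.reindex (finSumFinEquiv (m := 3) (n := 3)) (finSumFinEquiv (m := 3) (n := 3))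
      (Matrix.fromBlocks 1 A.toAdd 0 1), by
    rw [Matrix.det_reindex_self, Matrix.det_fromBlocks_zero₂₁, Matrix.det_one, one_mul]⟩) (by
    intro A B
    apply Subtype.ext
    have h : Matrix.reindex (finSumFinEquiv (m := 3) (n := 3)) (finSumFinEquiv (m := 3) (n := 3))
        (Matrix.fromBlocks (1 : Matrix (Fin 3) (Fin 3) F) (A * B).toAdd 0 1) =
        Matrix.reindex (finSumFinEquiv (m := 3) (n := 3)) (finSumFinEquiv (m := 3) (n := 3))
          (Matrix.fromBlocks (1 : Matrix (Fin 3) (Fin 3) F) A.toAdd 0 1) *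
        Matrix.reindex (finSumFinEquiv (m := 3) (n := 3)) (finSumFinEquiv (m := 3) (n := 3))
          (Matrix.fromBlocks (1 : Matrix (Fin 3) (Fin 3) F) B.toAdd 0 1) := by
      rw [Matrix.reindex_apply, Matrix.reindex_apply, Matrix.reindex_apply, Matrix.submatrix_mul_equiv,
        Matrix.fromBlocks_multiply]
      congr 1
      simp [add_comm]
    exact h)

theorem uSix_ker (A : Multiplicative (Matrix (Fin 3) (Fin 3) F))
    (h : uSix A ∈ Subgroup.center (Matrix.SpecialLinearGroup (Fin 6) F)) : A = 1 := by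
  obtain ⟨r, -, hr⟩ := Matrix.SpecialLinearGroup.mem_center_iff.1 h
  apply Multiplicative.toAdd.injective
  show A.toAdd = 0
  ext i j
  have h1 := congrFun (congrFun hr (finSumFinEquiv (m := 3) (n := 3) (Sum.inl i)))
    (finSumFinEquiv (m := 3) (n := 3) (Sum.inr j))
  have h2 : (uSix A : Matrix (Fin 6) (Fin 6) F) (finSumFinEquiv (m := 3) (n := 3) (Sum.inl i))
      (finSumFinEquiv (m := 3) (n := 3) (Sum.inr j)) = A.toAdd i j := by
    show Matrix.reindex (finSumFinEquiv (m := 3) (n := 3)) (finSumFinEquiv (m := 3) (n := 3))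
      (Matrix.fromBlocks 1 A.toAdd 0 1) _ _ = _
    rw [Matrix.reindex_apply, Matrix.submatrix_apply, Equiv.symm_apply_apply, Equiv.symm_apply_apply,
      Matrix.fromBlocks_apply₁₂]
  rw [h2, Matrix.scalar_apply, Matrix.diagonal_apply_ne] at h1
  · exact h1.symm
  · intro he
    have := (finSumFinEquiv (m := 3) (n := 3)).injective he
    simp at this

/-- **`PSL₆(q')`, `q'` even, does not embed in `E₆(q)`, `q` odd** -/
theorem not_inE6_psl_six [Finite F] [CharP F 2] : ¬ InE6 (Matrix.ProjectiveSpecialLinearGroup (Fin 6) F) := by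
  have : Finite (Matrix (Fin 3) (Fin 3) F) := inferInstance
  refine not_inE6_of_hom (A := Multiplicative (Matrix (Fin 3) (Fin 3) F)) ?_
    ((QuotientGroup.mk' _).comp uSix) ?_ ?_
  · intro a
    apply Multiplicative.toAdd.injective
    show a.toAdd + a.toAdd = 0
    ext i j
    exact CharTwo.add_self_eq_zero _
  · rw [injective_iff_map_eq_one]
    intro A hA
    exact uSix_ker A ((QuotientGroup.eq_one_iff _).1 hA)
  · have h1 : Nat.card (Multiplicative (Matrix (Fin 3) (Fin 3) F)) = Nat.card F ^ 9 := by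
      show Nat.card (Fin 3 → Fin 3 → F) = _
      have h3 : Nat.card (Fin 3 → F) = Nat.card F ^ 3 := by rw [Nat.card_pi]; simp
      rw [Nat.card_pi]
      simp only [h3, Finset.prod_const, Finset.card_univ, Fintype.card_fin]
      rw [← pow_mul]
    have h2 : 2 ≤ Nat.card F := Finite.one_lt_card
    rw [h1]
    calc 64 < 2 ^ 9 := by norm_num
      _ ≤ _ := Nat.pow_le_pow_left h2 9

/-- **the row `r.f4.5.L6(2)`** -/
theorem eps_psl_six {G : Type*} [Group G] (hG : InE6 G) [Finite F] [CharP F 2] {H N : Subgroup G} {T : Type} [Group T]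
    {k : ℕ} {e : N ≃* (Fin k → T)} (h : EPS H N e) (i : T ≃* Matrix.ProjectiveSpecialLinearGroup (Fin 6) F) : False := by
  refine not_inE6_psl_six (F := F) (hG.mono ((Cfsg.Agent.H758.EPX.inj e ⟨0, h.pos⟩).comp i.symm.toMonoidHom)
    ((Cfsg.Agent.H758.EPX.inj_injective e _).comp i.symm.injective))

end six

end Cfsg.Agent.H783.EX
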