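import Cfsg.Agent.H783.EX.D42Inv
import Cfsg.Agent.H166.EP.CF4
import Cfsg.Agent.H313.EPX.TD4Five
import Cfsg.Agent.H742.EX.EPi
import Cfsg.Agent.H742.EX.NoS
import Cfsg.Agent.H357.EP.Signs

/-!
# S5745: no extremely primitive `³D₄(2)` in `F₄(3)` (helper783)

`E_π` with `π = {2, 7, 13}` (`EPS.hM_odd` for `s = 3`), helper166's centralisers in `F₄(q)`, the involutions of `³D₄(2)`
(`d42_inv`): the involutions with a fixed space of dimension `11` on the module of dimension `27` lie in the class of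
`819` elements, as a group of order `8` whose involutions are all of this kind does not exist (`no_pure8`).
-/

set_option autoImplicit false

namespace Cfsg.Agent.H783.EX.F4TD4

open Subgroup Cfsg Cfsg.Lie Cfsg.Agent.H284 Cfsg.Agent.H209.EPX Cfsg.Agent.H742.EX Cfsg.Agent.H313.EPX
open Cfsg.Agent.H952.F4 Cfsg.Agent.H357.EP
open Cfsg.Agent.ChevalleyStructure.E6Min.Tables Cfsg.Agent.ChevalleyStructure.E6Min.Basic

/-! ### the terms of `E_π` -/

section terms

variable {G : Type*} [Group G] [Finite G]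

theorem cG_mul (x : G) : cG x * Nat.card ↥(centralizer ({x} : Set G)) = Nat.card G := by
  rw [card_G x]
  congr 1
  refine Nat.card_congr (Equiv.subtypeEquivRight fun g => ?_)
  rw [mem_centralizer_singleton_iff]
  constructor
  · intro h
    rw [mul_assoc, ← h, inv_mul_cancel_left]
  · intro h
    have h1 : g * (g⁻¹ * x * g) = g * x := by rw [h]
    rw [← h1]; group

theorem frac_le (H : Subgroup G) (x : G) {a K : ℕ} (ha : cH H x ≤ a)
    (hK : Nat.card ↥(centralizer ({x} : Set G)) ≤ K) : (cH H x / cG x : ℚ) ≤ a * K / Nat.card G := by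
  have h1 := cG_mul x
  have h2 : (0 : ℚ) < cG x := by exact_mod_cast cG_pos x
  have h3 : (0 : ℚ) < Nat.card G := by exact_mod_cast Nat.card_pos
  rw [div_le_div_iff₀ h2 h3, ← h1]
  push_cast
  have h4 : (cH H x : ℚ) ≤ a := by exact_mod_cast ha
  have h5 : (Nat.card ↥(centralizer ({x} : Set G)) : ℚ) ≤ K := by exact_mod_cast hK
  have h6 : (cH H x : ℚ) * Nat.card ↥(centralizer ({x} : Set G)) ≤ a * K :=
    mul_le_mul h4 h5 (Nat.cast_nonneg _) (Nat.cast_nonneg _)
  calc (cH H x : ℚ) * (cG x * Nat.card ↥(centralizer ({x} : Set G)))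
      = cG x * (cH H x * Nat.card ↥(centralizer ({x} : Set G))) := by ring
    _ ≤ cG x * (a * K) := mul_le_mul_of_nonneg_left h6 h2.le
    _ = _ := by ring

theorem cH_le_el (H : Subgroup G) (x : G) {r : ℕ} (hx : orderOf x = r) : cH H x ≤ (el H r).card := by
  have h5 : cH H x ≤ Nat.card (el H r) := by
    refine Nat.card_le_card_of_injective (fun y => ⟨y.1, mem_el.2 ⟨y.2.2, ?_⟩⟩) ?_
    · obtain ⟨d, hd⟩ := isConj_iff.1 y.2.1
      rw [← hd, ← hx]
      exact (MulAut.conj d).orderOf_eq x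
    · intro y z hyz
      exact Subtype.ext (congrArg (fun t : el H r => (t : G)) hyz)
  rwa [Nat.card_eq_fintype_card, Fintype.card_coe] at h5

theorem sum_le {H : Subgroup G} {S : Finset G} {a n K : ℕ} (hn : S.card ≤ n) (ha : ∀ x ∈ S, cH H x ≤ a)
    (hK : ∀ x ∈ S, Nat.card ↥(centralizer ({x} : Set G)) ≤ K) :
    ∑ x ∈ S, (cH H x / cG x : ℚ) ≤ n * (a * K / Nat.card G) := by
  refine (Finset.sum_le_card_nsmul S _ _ fun x hx => frac_le H x (ha x hx) (hK x hx)).trans ?_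
  rw [nsmul_eq_mul]
  refine mul_le_mul_of_nonneg_right (by exact_mod_cast hn) ?_
  positivity

end terms

/-! ### the module of dimension 27 -/

section mod

variable {F : Type*} [Field F]

theorem rank_of_ev {ρ : ↥(chevF4.group F) →* GL I27 F} (y : ↥(chevF4.group F)) :
    ((ρ y : Matrix I27 I27 F) - 1).rank + ev (JK ρ y) 1 = 27 := by
  have h1 : Module.End.eigenspace (JK ρ y) 1 = LinearMap.ker (Matrix.toLin' ((ρ y : Matrix I27 I27 F) - 1)) := by
    ext v
    rw [Module.End.mem_eigenspace_iff, LinearMap.mem_ker, Matrix.toLin'_apply, Matrix.sub_mulVec, Matrix.one_mulVec,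
      one_smul, sub_eq_zero]
    rfl
  have h2 := LinearMap.finrank_range_add_finrank_ker (Matrix.toLin' ((ρ y : Matrix I27 I27 F) - 1))
  rw [Module.finrank_fintype_fun_eq_card] at h2
  have h3 : Fintype.card I27 = 27 := by simp [I27]
  rw [h3] at h2
  unfold ev
  rw [h1]
  exact h2

theorem no_pure8 (h2 : (2 : F) ≠ 0) {ρ : ↥(chevF4.group F) →* GL I27 F} (E : Subgroup ↥(chevF4.group F))
    (hE : ∀ y ∈ E, y * y = 1) (hc : Nat.card E = 8) (h : ∀ y ∈ E, y ≠ 1 → ev (JK ρ y) 1 = 11) : False := by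
  classical
  have : Finite E := Nat.finite_of_card_ne_zero (by omega)
  have := Fintype.ofFinite E
  obtain ⟨κ, iκ, χ, hκ, h1, hm, hr⟩ := exists_signs h2 (E := E) (fun y => Subtype.ext (hE y y.2)) (ρ.comp E.subtype)
  have h3 : Fintype.card I27 = 27 := by simp [I27]
  have h4 : ∀ y : E, y ≠ 1 → ∑ i, χ i y = -5 := by
    intro y hy
    rw [← hr y, h3]
    have h5 := rank_of_ev (ρ := ρ) (y : ↥(chevF4.group F))
    rw [h y y.2 (fun h0 => hy (Subtype.ext h0))] at h5
    have h6 : (((ρ.comp E.subtype) y : Matrix I27 I27 F) - 1).rank = 16 := by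
      have h7 : (((ρ.comp E.subtype) y : Matrix I27 I27 F) - 1) = ((ρ (y : ↥(chevF4.group F)) : Matrix I27 I27 F) - 1) := rfl
      rw [h7]; omega
    rw [h6]
    norm_num
  have h5 : ∑ i, χ i (1 : E) = 27 := by
    rw [← hr 1, map_one, Units.val_one, sub_self, Matrix.rank_zero, h3]
    norm_num
  have h6 : 0 ≤ ∑ y : E, ∑ i, χ i y := by
    rw [Finset.sum_comm]
    refine Finset.sum_nonneg fun i _ => ?_
    rcases sum_chi (h1 i) (hm i) with h7 | h7
    · rw [h7]; positivity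
    · rw [h7]
  rw [← Finset.add_sum_erase _ _ (Finset.mem_univ (1 : E)), h5,
    Finset.sum_congr rfl (fun y hy => h4 y (Finset.ne_of_mem_erase hy)), Finset.sum_const,
    Finset.card_erase_of_mem (Finset.mem_univ _), Finset.card_univ, ← Nat.card_eq_fintype_card, hc] at h6
  norm_num at h6

theorem ev_isConj {ρ : ↥(chevF4.group F) →* GL I27 F} {x y : ↥(chevF4.group F)} (h : IsConj x y) :
    ev (JK ρ x) 1 = ev (JK ρ y) 1 := by
  obtain ⟨c, rfl⟩ := isConj_iff.1 h
  exact (TabLin.ev_conj (JK ρ) _ _ _).symm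

end mod

/-! ### the row -/

theorem prime_of_dvd {r : ℕ} (hr : r.Prime) (h : r ∣ 634023936) (h3 : r ≠ 3) : r = 2 ∨ r = 7 ∨ r = 13 := by
  have h1 : (634023936 : ℕ) = 2 ^ 12 * 3 ^ 5 * 7 ^ 2 * 13 := by norm_num
  rw [h1, hr.dvd_mul, hr.dvd_mul, hr.dvd_mul] at h
  rcases h with ((h | h) | h) | h
  · left
    exact (Nat.prime_dvd_prime_iff_eq hr Nat.prime_two).1 (hr.dvd_of_dvd_pow h)
  · exact absurd ((Nat.prime_dvd_prime_iff_eq hr Nat.prime_three).1 (hr.dvd_of_dvd_pow h)) h3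
  · right; left
    exact (Nat.prime_dvd_prime_iff_eq hr (by norm_num)).1 (hr.dvd_of_dvd_pow h)
  · right; right
    exact (Nat.prime_dvd_prime_iff_eq hr (by norm_num)).1 h

theorem arith {i g : ℚ} (hg : g = 3 ^ 24 * (3 ^ 2 - 1) * (3 ^ 6 - 1) * (3 ^ 8 - 1) * (3 ^ 12 - 1)) (hi : 0 < i)
    {s2 s7 s13 : ℚ} (h : i - 1 ≤ i * (1 / ((2 : ℕ) - 1) * s2 + (1 / ((7 : ℕ) - 1) * s7 + 1 / ((13 : ℕ) - 1) * s13)))
    (h2 : s2 ≤ 819 * (819 * (3 ^ 16 * (2 ^ 4 * 4 ^ 16)) / g) + 69615 * (69615 * (3 ^ 10 * (2 ^ 4 * 4 ^ 10)) / g))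
    (h7 : s7 ≤ 211341312 * (211341312 * 442368 / g)) (h13 : s13 ≤ 211341312 * (211341312 * 442368 / g)) : i < 2 := by
  have hg0 : (0 : ℚ) < g := by rw [hg]; norm_num
  have e2 : s2 ≤ 2 / 5 := by
    refine h2.trans ?_
    rw [hg]; norm_num
  have e7 : s7 ≤ 1 / 100 := by
    refine h7.trans ?_
    rw [hg]; norm_num
  have e13 : s13 ≤ 1 / 100 := by
    refine h13.trans ?_
    rw [hg]; norm_num
  have h1 : 1 / (((2 : ℕ) : ℚ) - 1) * s2 + (1 / (((7 : ℕ) : ℚ) - 1) * s7 + 1 / (((13 : ℕ) : ℚ) - 1) * s13) < 1 / 2 := by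
    push_cast
    norm_num
    linarith
  nlinarith

/-- **no `³D₄(2)` in `F₄(3)`** -/
theorem row_td4_three {F : Type} [Field F] [Fintype F] (tab : OrdDiv.OrderTable.{0}) (hF : Fintype.card F = 3) :
    Row1 ↥(Lie.chevF4.group F) fun T _ => OrdDiv.Real (.td4 2) T := by
  classical
  intro H N T _ _ e h hT
  have hs : IsSimpleGroup T := h.simple
  have hna : ¬ ∀ a b : T, a * b = b * a := by
    obtain ⟨a, b, hab⟩ := h.nab
    exact fun hc => hab (hc a b)
  have hd : Nat.card H ∣ 634023936 := by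
    rw [← aut_td4 tab hna hT]
    exact H226.EX.card_dvd_aut h
  obtain ⟨K, iK, iK', hK, ⟨eT⟩⟩ := hT
  have hTc : Nat.card T = 211341312 := by
    rw [Nat.card_congr eT.toEquiv, tab.td4 K 2 Nat.prime_two.isPrimePow hK]
    norm_num
  have hGc : Nat.card ↥(Lie.chevF4.group F) = 3 ^ 24 * (3 ^ 2 - 1) * (3 ^ 6 - 1) * (3 ^ 8 - 1) * (3 ^ 12 - 1) := by
    rw [tab.f4 F 3 hF]
  -- the group `N`
  let φ : N ≃* T := e.trans (MulEquiv.funUnique (Fin 1) T)
  have hNc : Nat.card N = 211341312 := by rw [Nat.card_congr φ.toEquiv, hTc]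
  have hidx : (N.subgroupOf H).index ∣ 3 := by
    have h1 := (N.subgroupOf H).card_mul_index
    rw [card_M_subgroupOf H N h.le, hNc] at h1
    obtain ⟨c, hc⟩ := hd
    rw [← h1] at hc
    refine ⟨c, ?_⟩
    have h2 : 211341312 * 3 = 211341312 * ((N.subgroupOf H).index * c) := by
      rw [← mul_assoc, ← hc]
    exact Nat.eq_of_mul_eq_mul_left (by norm_num) h2
  have hnN : (N.subgroupOf H).Normal := ⟨fun n hn g => h.nrm g g.2 n hn⟩
  have hmem : ∀ (r : ℕ) (x : ↥(Lie.chevF4.group F)), r.Coprime 3 → x ∈ H → orderOf x = r → x ∈ N := by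
    intro r x hr hx hox
    have h1 : (⟨x, hx⟩ : H) ^ 3 ∈ N.subgroupOf H := by
      obtain ⟨c, hc⟩ := hidx
      rw [hc, pow_mul]
      exact pow_mem (Subgroup.pow_index_mem _ _) c
    have h2 : x ^ 3 ∈ N := mem_subgroupOf.1 h1
    have h3 : ∃ m : ℕ, (x ^ 3) ^ m = x := by
      refine exists_pow_eq_self_of_coprime ?_
      rw [hox]
      exact hr.symm
    obtain ⟨m, hm⟩ := h3
    rw [← hm]
    exact pow_mem h2 m
  -- the counts
  have hcardT : ∀ r : ℕ, r.Coprime 3 → (el H r).card ≤ 211341312 := by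
    intro r hr
    rw [← hNc, ← Fintype.card_coe, ← Nat.card_eq_fintype_card]
    refine Nat.card_le_card_of_injective (fun y => ⟨y.1, hmem r y.1 hr (mem_el.1 y.2).1 (mem_el.1 y.2).2⟩) ?_
    intro a b hab
    exact Subtype.ext (congrArg (fun z : N => (z : ↥(Lie.chevF4.group F))) hab)
  obtain ⟨hinv, P, hP, hPE⟩ := D42Inv.d42_inv hK eT
  have h23 : (2 : ℕ).Coprime 3 := by norm_num
  have hin : ∀ {x : ↥(Lie.chevF4.group F)}, x ∈ el H 2 → x ∈ N := fun hx =>
    hmem 2 _ h23 (mem_el.1 hx).1 (mem_el.1 hx).2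
  have hsq : ∀ {x : ↥(Lie.chevF4.group F)}, x ∈ el H 2 → x ≠ 1 ∧ x * x = 1 := fun {x} hx => by
    obtain ⟨-, h2⟩ := mem_el.1 hx
    refine ⟨fun h0 => ?_, ?_⟩
    · rw [h0, orderOf_one] at h2
      norm_num at h2
    · rw [← pow_two, ← h2, pow_orderOf_eq_one]
  have hφ : ∀ {x : ↥(Lie.chevF4.group F)} (hx : x ∈ el H 2), φ ⟨x, hin hx⟩ ≠ 1 ∧ φ ⟨x, hin hx⟩ * φ ⟨x, hin hx⟩ = 1 := by
    intro x hx
    obtain ⟨h1, h2⟩ := hsq hx
    constructor
    · intro h0
      apply h1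
      have h3 : (⟨x, hin hx⟩ : N) = 1 := φ.injective (by rw [h0, map_one])
      exact congrArg Subtype.val h3
    · rw [← map_mul, ← map_one φ]
      congr 1
      exact Subtype.ext h2
  have hel2 : (el H 2).card ≤ 69615 := by
    refine le_trans ?_ hinv
    rw [← Fintype.card_coe, ← Nat.card_eq_fintype_card]
    refine Nat.card_le_card_of_injective (fun y => ⟨φ ⟨y.1, hin y.2⟩, hφ y.2⟩) ?_
    intro a b hab
    have h1 := φ.injective (congrArg Subtype.val hab)
    exact Subtype.ext (congrArg (fun z : N => (z : ↥(Lie.chevF4.group F))) h1)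
  -- the involutions
  have hF3 : (3 : F) = 0 := by
    have h1 := FiniteField.cast_card_eq_zero F
    rw [hF] at h1
    exact_mod_cast h1
  have hF2 : (2 : F) ≠ 0 := fun h0 => one_ne_zero (α := F) (by linear_combination hF3 - h0)
  have hF7 : (7 : F) ≠ 0 := fun h0 => one_ne_zero (α := F) (by linear_combination h0 - 2 * hF3)
  have hF13 : (13 : F) ≠ 0 := fun h0 => one_ne_zero (α := F) (by linear_combination h0 - 4 * hF3)
  have hNF : Nat.card F = 3 := by rw [Nat.card_eq_fintype_card, hF]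
  obtain ⟨ρ, hρ⟩ := JMod.exists_isJ F
  have h11 : ∀ x ∈ el H 2, ev (JK ρ x) 1 = 11 → ∀ hx : x ∈ N, P (φ ⟨x, hx⟩) := by
    intro x hx hev hxN
    by_contra hnP
    obtain ⟨E, hE8, hxE, hE2, hEc⟩ := hPE _ (hφ hx).1 (hφ hx).2 hnP
    let j : T →* ↥(Lie.chevF4.group F) := N.subtype.comp φ.symm.toMonoidHom
    have hj : Function.Injective j := Subtype.coe_injective.comp φ.symm.injective
    have hjx : j (φ ⟨x, hxN⟩) = x := by
      show ((φ.symm (φ ⟨x, hxN⟩) : N) : ↥(Lie.chevF4.group F)) = x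
      rw [φ.symm_apply_apply]
    refine no_pure8 hF2 (ρ := ρ) (E.map j) ?_ ?_ ?_
    · rintro _ ⟨y, hy, rfl⟩
      rw [← map_mul, hE2 y hy, map_one]
    · rw [← hE8]
      exact (Nat.card_congr (E.equivMapOfInjective _ hj).toEquiv).symm
    · rintro _ ⟨y, hy, rfl⟩ hne
      have h1 : y ≠ 1 := by
        rintro rfl
        exact hne (map_one _)
      have h2 := j.map_isConj (hEc y hy h1)
      rw [hjx] at h2
      rw [← ev_isConj h2, hev]
  let A : Finset ↥(Lie.chevF4.group F) := (el H 2).filter fun x => ev (JK ρ x) 1 = 11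
  have hA : ∀ {x}, x ∈ A ↔ x ∈ el H 2 ∧ ev (JK ρ x) 1 = 11 := fun {x} => Finset.mem_filter
  have hAc : A.card ≤ 819 := by
    refine le_trans ?_ hP
    rw [← Fintype.card_coe, ← Nat.card_eq_fintype_card]
    refine Nat.card_le_card_of_injective (fun y => ⟨φ ⟨y.1, hin (hA.1 y.2).1⟩, h11 _ (hA.1 y.2).1 (hA.1 y.2).2 _⟩) ?_
    intro a b hab
    have h1 := φ.injective (congrArg Subtype.val hab)
    exact Subtype.ext (congrArg (fun z : N => (z : ↥(Lie.chevF4.group F))) h1)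
  have hAH : ∀ x ∈ A, cH H x ≤ 819 := by
    intro x hx
    refine le_trans ?_ hAc
    have h5 : cH H x ≤ Nat.card A := by
      refine Nat.card_le_card_of_injective (fun y => ⟨y.1, hA.2 ⟨mem_el.2 ⟨y.2.2, ?_⟩, ?_⟩⟩) ?_
      · obtain ⟨d, hd⟩ := isConj_iff.1 y.2.1
        rw [← hd, ← (mem_el.1 (hA.1 hx).1).2]
        exact (MulAut.conj d).orderOf_eq x
      · rw [← ev_isConj y.2.1, (hA.1 hx).2]
      · intro y z hyz
        exact Subtype.ext (congrArg (fun t : A => (t : ↥(Lie.chevF4.group F))) hyz)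
    rwa [Nat.card_eq_fintype_card, Fintype.card_coe] at h5
  have hcent : ∀ x ∈ el H 2, (x ∈ A ∧ Nat.card ↥(centralizer ({x} : Set ↥(Lie.chevF4.group F))) ≤
      3 ^ 16 * (2 ^ 4 * 4 ^ 16)) ∨ (x ∉ A ∧ Nat.card ↥(centralizer ({x} : Set ↥(Lie.chevF4.group F))) ≤
      3 ^ 10 * (2 ^ 4 * 4 ^ 10)) := by
    intro x hx
    rcases Cfsg.Agent.H166.EP.cent_two hF2 hρ (hsq hx).1 (hsq hx).2 with ⟨h1, h2⟩ | ⟨h1, h2⟩
    · right
      rw [hNF] at h1
      exact ⟨fun h3 => by rw [(hA.1 h3).2] at h2; norm_num at h2, h1⟩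
    · left
      rw [hNF] at h1
      exact ⟨hA.2 ⟨hx, h2⟩, h1⟩
  have hs2 : ∑ x ∈ el H 2, (cH H x / cG x : ℚ) ≤ (819 : ℕ) * ((819 : ℕ) * ((3 ^ 16 * (2 ^ 4 * 4 ^ 16) : ℕ) : ℚ) /
      Nat.card ↥(Lie.chevF4.group F)) + (69615 : ℕ) * ((69615 : ℕ) * ((3 ^ 10 * (2 ^ 4 * 4 ^ 10) : ℕ) : ℚ) /
      Nat.card ↥(Lie.chevF4.group F)) := by
    rw [← Finset.sum_filter_add_sum_filter_not (el H 2) (fun x => ev (JK ρ x) 1 = 11)]
    refine add_le_add (sum_le hAc hAH fun x hx => ?_) (sum_le ((Finset.card_filter_le _ _).trans hel2) (fun x hx => ?_)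
      fun x hx => ?_)
    · rcases hcent x (hA.1 hx).1 with h1 | h1
      · exact h1.2
      · exact absurd hx h1.1
    · exact (cH_le_el H x (mem_el.1 (Finset.mem_filter.1 hx).1).2).trans hel2
    · rcases hcent x (Finset.mem_filter.1 hx).1 with h1 | h1
      · exact absurd (hA.1 h1.1).2 (Finset.mem_filter.1 hx).2
      · exact h1.2
  have hs7 : ∑ x ∈ el H 7, (cH H x / cG x : ℚ) ≤ (211341312 : ℕ) * ((211341312 : ℕ) * ((442368 : ℕ) : ℚ) /
      Nat.card ↥(Lie.chevF4.group F)) := by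
    refine sum_le (hcardT 7 (by norm_num)) (fun x hx => (cH_le_el H x (mem_el.1 hx).2).trans (hcardT 7 (by norm_num)))
      fun x hx => ?_
    have h1 := Cfsg.Agent.H166.EP.cent_seven hF7 (by left; rw [hNF]) (x := x) (fun h0 => by
      have := (mem_el.1 hx).2
      rw [h0, orderOf_one] at this
      norm_num at this) (by rw [← (mem_el.1 hx).2, pow_orderOf_eq_one])
    rw [hNF] at h1
    exact h1.trans (by norm_num)
  have hs13 : ∑ x ∈ el H 13, (cH H x / cG x : ℚ) ≤ (211341312 : ℕ) * ((211341312 : ℕ) * ((442368 : ℕ) : ℚ) /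
      Nat.card ↥(Lie.chevF4.group F)) := by
    refine sum_le (hcardT 13 (by norm_num)) (fun x hx => (cH_le_el H x (mem_el.1 hx).2).trans (hcardT 13 (by norm_num)))
      fun x hx => ?_
    have h1 := (Cfsg.Agent.H166.EP.cent_thirteen hF13 (x := x) (fun h0 => by
      have := (mem_el.1 hx).2
      rw [h0, orderOf_one] at this
      norm_num at this) (by rw [← (mem_el.1 hx).2, pow_orderOf_eq_one])).2 (by rw [hNF])
    rw [hNF] at h1
    exact h1.trans (by norm_num)
  -- `E_π`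
  have hM := EPS.hM_odd h Nat.prime_three (by norm_num)
  have hπ : ∀ g ∉ H, ∃ r ∈ ({2, 7, 13} : Finset ℕ), r ∣ Nat.card (H ⊓ cj g H : Subgroup ↥(Lie.chevF4.group F)) := by
    intro g hg
    obtain ⟨r, hr, hrd⟩ := hM g hg
    rw [Finset.mem_erase, Nat.mem_primeFactors] at hr
    refine ⟨r, ?_, hrd⟩
    rcases prime_of_dvd hr.2.1 (hr.2.2.1.trans hd) hr.1 with h1 | h1 | h1 <;> rw [h1] <;> decide
  have hE := e_pi_class H ({2, 7, 13} : Finset ℕ) (by
    intro r hr
    simp only [Finset.mem_insert, Finset.mem_singleton] at hr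
    rcases hr with rfl | rfl | rfl <;> norm_num) hπ
  rw [Finset.sum_insert (by decide), Finset.sum_insert (by decide), Finset.sum_singleton] at hE
  have hi0 : (0 : ℚ) < H.index := by
    have : H.index ≠ 0 := Subgroup.index_ne_zero_of_finite
    exact_mod_cast Nat.pos_of_ne_zero this
  have hlt := arith (i := H.index) (g := Nat.card ↥(Lie.chevF4.group F)) (by
    rw [hGc]; norm_num) hi0 hE (by exact_mod_cast hs2) (by exact_mod_cast hs7) (by exact_mod_cast hs13)
  have hlt' : H.index < 2 := by exact_mod_cast hlt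
  have h1 := H.card_mul_index
  have h2 : Nat.card H ≤ 634023936 := Nat.le_of_dvd (by norm_num) hd
  have h3 : Nat.card ↥(Lie.chevF4.group F) ≤ 634023936 * 1 := by
    rw [← h1]
    exact Nat.mul_le_mul h2 (by omega)
  rw [hGc] at h3
  norm_num at h3

end Cfsg.Agent.H783.EX.F4TD4
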