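import Cfsg.Agent.H357.EP.Inv27
import Cfsg.Agent.H129.FE.Grp
import Cfsg.Agent.Cit.HexG2
import Cfsg.Agent.Cit.HexInv
import Cfsg.Agent.Cit.HexD4
import Cfsg.Agent.H542.EPX.Cells
import Cfsg.Agent.S0204
import Cfsg.Agent.S1033

/-!
# S5745, `k ≥ 2`, odd characteristic: the 2-rank (helper783)

`EPS H N e`, `e : N ≃* (Fin k → T)`: every elementary abelian 2-subgroup `V` of `T` gives one of order `|V| ^ k` in `G`;
`T` contains a four-group, so `G` contains an elementary abelian group of order `4 ^ k`.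

* `g2_card_le`, `td4_card_le` : elementary abelian 2-subgroups of `G₂(q)`, `³D₄(q)`, `q` odd, have order at most 8
  (adjoint module, all involutions have trace `-2`, `-4`);
* `crossk_g2`, `crossk_td4` : no `EPS` with `2 ≤ k`;
* `inE6_le_three` : `k ≤ 3` in `E₆(q)`, `²E₆(q)`, `F₄(q)` (`q` odd), and `|V| ^ k ≤ 64`.
-/

set_option autoImplicit false
set_option linter.unusedSectionVars false

namespace Cfsg.Agent.H783.EX

open Cfsg Cfsg.Lie Matrix Cfsg.Agent.H357.EP
open Cfsg.Agent.ChevalleyStructure.Elts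
open Cfsg.Agent.H284 Cfsg.Agent.H209.EPX Cfsg.Agent.H542.EPX

/-! ### The bound from the traces -/

section bound

variable {F : Type} [Field F] {ι : Type} [Fintype ι] [DecidableEq ι]

/-- all involutions of an elementary abelian group `E` of matrices have `rank (x - 1) = r > n / 2` -/
theorem card_of_rank (h2 : (2 : F) ≠ 0) {E : Type*} [Group E] [Fintype E] (hE : ∀ x : E, x * x = 1)
    (φ : E →* GL ι F) {r : ℕ} (hr : ∀ x, x ≠ 1 → ((φ x : Matrix ι ι F) - 1).rank = r) :
    ∃ m : ℕ, (Fintype.card ι : ℤ) + ((Fintype.card E : ℤ) - 1) * (Fintype.card ι - 2 * r) = Fintype.card E * (m : ℤ) := by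
  classical
  obtain ⟨κ, iκ, χ, h1, h3, h4, h5⟩ := exists_signs h2 hE φ
  obtain ⟨m, hm⟩ := sum_beta h3 h4
  refine ⟨m, ?_⟩
  rw [← hm]
  have h6 : ∀ x : E, ∑ i, χ i x = (if x = 1 then 2 * (r : ℤ) else 0) + ((Fintype.card ι : ℤ) - 2 * r) := by
    intro x
    rw [← h5]
    by_cases hx : x = 1
    · rw [if_pos hx, hx, map_one, Units.val_one, sub_self, Matrix.rank_zero]
      push_cast
      ring
    · rw [if_neg hx, hr x hx]
      ring
  rw [Finset.sum_congr rfl fun x _ => h6 x, Finset.sum_add_distrib, Finset.sum_ite_eq' Finset.univ (1 : E),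
    if_pos (Finset.mem_univ _), Finset.sum_const, Finset.card_univ, nsmul_eq_mul]
  ring

theorem rank_conj {g h : GL ι F} (x : GL ι F) (hx : x * g * x⁻¹ = h) :
    ((g : Matrix ι ι F) - 1).rank = ((h : Matrix ι ι F) - 1).rank := by
  subst hx
  have h4 : ((x * g * x⁻¹ : GL ι F) : Matrix ι ι F) - 1 =
      (x : Matrix ι ι F) * (((g : Matrix ι ι F) - 1) * ((x⁻¹ : GL ι F) : Matrix ι ι F)) := by
    rw [Matrix.sub_mul, Matrix.mul_sub, one_mul, ← Units.val_mul x, mul_inv_cancel, Units.val_one,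
      ← Units.val_mul, ← Units.val_mul, ← mul_assoc]
  have hd : ∀ x : GL ι F, IsUnit (x : Matrix ι ι F).det := fun x =>
    (Matrix.isUnit_iff_isUnit_det _).1 x.isUnit
  rw [h4, Matrix.rank_mul_eq_right_of_isUnit_det _ _ (hd _), Matrix.rank_mul_eq_left_of_isUnit_det _ _ (hd _)]

/-- all involutions of `L ≤ GL` are conjugate to `g0` -/
theorem card_of_class (h2 : (2 : F) ≠ 0) (L : Subgroup (GL ι F)) (g0 : L) {r : ℕ}
    (hr : (((g0 : GL ι F) : Matrix ι ι F) - 1).rank = r)
    (hc : ∀ x : L, x * x = 1 → x ≠ 1 → IsConj g0 x)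
    {E : Type*} [Group E] [Fintype E] (hE : ∀ x : E, x * x = 1) (φ : E →* L) (hφ : Function.Injective φ) :
    ∃ m : ℕ, (Fintype.card ι : ℤ) + ((Fintype.card E : ℤ) - 1) * (Fintype.card ι - 2 * r) = Fintype.card E * (m : ℤ) := by
  refine card_of_rank h2 hE (L.subtype.comp φ) fun x hx => ?_
  have h1 : φ x * φ x = 1 := by rw [← map_mul, hE, map_one]
  have h3 : φ x ≠ 1 := fun h => hx (hφ (by rw [h, map_one]))
  obtain ⟨g, hg⟩ := isConj_iff.1 (hc _ h1 h3)
  rw [← hr]
  refine (rank_conj (g : GL ι F) ?_).symm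
  have := congrArg Subtype.val hg
  simpa using this

end bound

/-! ### The torus involution -/

section tor

variable {F : Type} [Field F] {D : ChevalleyDatum}

/-- the rank of `h_p(-1) - 1` -/
theorem rank_h (h2 : (2 : F) ≠ 0) (hD : InList D) {i : ℕ} (hi : i < D.rank) {r : ℕ}
    (hr : Fintype.card {j : D.Idx // Sum.elim (fun _ => false)
      (fun s : Fin D.nroots => decide (D.cartan i s % 2 ≠ 0)) j = true} = r) :
    (((hG hD (D.simple i) (-1 : F) : GL D.Idx F) : Matrix D.Idx D.Idx F) - 1).rank = r := by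
  classical
  rw [coe_hG, Cfsg.Agent.S1033.result D hD i hi (-1) (neg_ne_zero.2 one_ne_zero), ← Matrix.diagonal_one,
    Matrix.diagonal_sub, Matrix.rank_diagonal, ← hr]
  apply Fintype.card_congr
  refine Equiv.subtypeEquivRight fun j => ?_
  rcases j with j | s
  · simp
  · simp only [Sum.elim_inr, decide_eq_true_eq]
    rcases Int.even_or_odd (D.cartan i s) with h | h
    · rw [h.neg_one_zpow, sub_self]
      have : D.cartan i s % 2 = 0 := Int.even_iff.1 h
      simp [this]
    · rw [h.neg_one_zpow]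
      have h3 : D.cartan i s % 2 = 1 := Int.odd_iff.1 h
      have h4 : (-1 - 1 : F) ≠ 0 := by
        intro h5
        apply h2
        have h6 : (2 : F) = -(-1 - 1) := by ring
        rw [h6, h5, neg_zero]
      simp [h3, h4]

end tor

section groups

theorem sq_h {F : Type} [Field F] {D : ChevalleyDatum} (hD : InList D) {i : ℕ} (hi : i < D.rank) :
    hG hD (D.simple i) (-1 : F) * hG hD (D.simple i) (-1 : F) = 1 := by
  apply Units.ext
  rw [Units.val_mul, coe_hG, Cfsg.Agent.S1033.result D hD i hi (-1) (neg_ne_zero.2 one_ne_zero),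
    Matrix.diagonal_mul_diagonal, Units.val_one, ← Matrix.diagonal_one]
  congr 1
  funext j
  rcases j with j | s
  · simp
  · simp only [Sum.elim_inr]
    rw [← mul_zpow]
    norm_num

/-- **the 2-rank of `G₂(q)`, `q` odd, is at most 3** -/
theorem g2_card_le {F : Type} [Field F] [Finite F] (h2 : (2 : F) ≠ 0) {E : Type*} [Group E] [Finite E]
    (hE : ∀ x : E, x * x = 1) (φ : E →* ↥(chevG2.group F)) (hφ : Function.Injective φ) : Nat.card E ≤ 8 := by
  classical
  have := Fintype.ofFinite E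
  have : Finite ↥(chevG2.group F) := inferInstance
  have hD : InList chevG2 := by simp
  let g0 : ↥(chevG2.group F) := ⟨hG hD (chevG2.simple 0) (-1 : F), hG_mem_group _ _ _⟩
  have hr : (((g0 : GL chevG2.Idx F) : Matrix chevG2.Idx chevG2.Idx F) - 1).rank = 8 :=
    rank_h h2 hD (i := 0) (by decide) (by decide +kernel)
  have hne : g0 ≠ 1 := by
    intro h
    rw [h] at hr
    simp at hr
  have hsq : g0 * g0 = 1 := Subtype.ext (sq_h hD (by decide))
  obtain ⟨m, hm⟩ := card_of_class h2 _ g0 hr (fun x hx hx1 =>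
    (Cfsg.Agent.Cit.HexG2.g2 F h2).isConj_invol h2 hsq hne hx hx1) hE φ hφ
  rw [Nat.card_eq_fintype_card]
  have h14 : Fintype.card chevG2.Idx = 14 := by decide +kernel
  rw [h14] at hm
  push_cast at hm
  have h0 : (0 : ℤ) ≤ (Fintype.card E : ℤ) * m := by positivity
  have h9 : (Fintype.card E : ℤ) ≤ 8 := by linarith
  exact_mod_cast h9

theorem x14_mem {K : Type} [Field K] {q : ℕ} {r : ℕ} (hr : r ∈ [d4p2, d4m2]) {t : K} (ht : t ^ q = t) (hD : InList chevD4) :
    xG hD r t ∈ twistedD4 K q :=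
  Subgroup.subset_closure ⟨[(r, t)], Or.inl ⟨t, ht, r, hr, rfl⟩, by
    rw [coe_xG]
    show _ = (List.map _ [(r, t)]).prod
    simp⟩

theorem td4_mem {K : Type} [Field K] {q : ℕ} (hq : Odd q) (hD : InList chevD4) :
    hG hD (chevD4.simple 1) (-1 : K) ∈ twistedD4 K q := by
  have h1 : (-1 : K) ^ q = -1 := hq.neg_one_pow
  have e1 : chevD4.simple 1 = d4p2 := by decide +kernel
  have e2 : chevD4.neg d4p2 = d4m2 := by decide +kernel
  have hn : nG hD d4p2 (-1 : K) ∈ twistedD4 K q := by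
    rw [nG_def, e2]
    refine mul_mem (x14_mem (by simp) h1 hD) (mul_mem (x14_mem (by simp) ?_ hD) (x14_mem (by simp) h1 hD))
    norm_num
  rw [e1, hG_def]
  exact mul_mem hn hn

/-- **the 2-rank of `³D₄(q)`, `q` odd, is at most 3** -/
theorem td4_card_le {K : Type} [Field K] [Fintype K] {q : ℕ} (hq : Odd q) (hK : Fintype.card K = q ^ 3)
    (h2 : (2 : K) ≠ 0) {E : Type*} [Group E] [Finite E]
    (hE : ∀ x : E, x * x = 1) (φ : E →* ↥(twistedD4 K q)) (hφ : Function.Injective φ) : Nat.card E ≤ 8 := by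
  classical
  have := Fintype.ofFinite E
  have : Finite ↥(twistedD4 K q) := inferInstance
  have hD : InList chevD4 := by simp
  let g0 : ↥(twistedD4 K q) := ⟨hG hD (chevD4.simple 1) (-1 : K), td4_mem hq hD⟩
  have hr : (((g0 : GL chevD4.Idx K) : Matrix chevD4.Idx chevD4.Idx K) - 1).rank = 16 :=
    rank_h h2 hD (i := 1) (by decide) (by decide +kernel)
  have hne : g0 ≠ 1 := by
    intro h
    rw [h] at hr
    simp at hr
  have hsq : g0 * g0 = 1 := Subtype.ext (sq_h hD (by decide))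
  obtain ⟨σ, -, ⟨c⟩⟩ := Cfsg.Agent.Cit.HexD4.exists_d4 hK
  obtain ⟨m, hm⟩ := card_of_class h2 _ g0 hr (fun x hx hx1 => c.isConj_invol h2 hsq hne hx hx1) hE φ hφ
  rw [Nat.card_eq_fintype_card]
  have h28 : Fintype.card chevD4.Idx = 28 := by decide +kernel
  rw [h28] at hm
  push_cast at hm
  have h0 : (0 : ℤ) ≤ (Fintype.card E : ℤ) * m := by positivity
  have h9 : (Fintype.card E : ℤ) ≤ 8 := by linarith
  exact_mod_cast h9

/-- `F₄(q)` embeds in `E₆(q)` -/
theorem inE6_f4 {F : Type} [Field F] [Fintype F] (ho : Odd (Fintype.card F)) {T : Type*} [Group T]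
    (e : T ≃* ↥(chevF4.group F)) : InE6 T :=
  ⟨F, inferInstance, inferInstance, ho, (Cfsg.Agent.H129.FE.toE6 F).comp e.toMonoidHom,
    (Cfsg.Agent.H129.FE.toE6_injective F).comp e.injective⟩

end groups

/-! ### Powers of a simple group -/

section eps

variable {G : Type*} [Group G] {H N : Subgroup G} {T : Type} [Group T] {k : ℕ} {e : N ≃* (Fin k → T)}

/-- `V ^ k ≤ T ^ k ≅ N ≤ G` -/
def powHom (e : N ≃* (Fin k → T)) (V : Subgroup T) : (Fin k → V) →* G :=
  N.subtype.comp (e.symm.toMonoidHom.comp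
    (MonoidHom.mk' (fun f i => (f i : T)) fun f g => by funext i; simp))

theorem powHom_injective (e : N ≃* (Fin k → T)) (V : Subgroup T) : Function.Injective (powHom e V) := by
  intro f g h
  have h1 := e.symm.injective (Subtype.ext h)
  funext i
  exact Subtype.ext (congrFun h1 i)

theorem card_pow (V : Subgroup T) : Nat.card (Fin k → V) = Nat.card V ^ k := by
  rw [Nat.card_pi]
  simp

/-- a nonabelian simple group contains a four-group -/
theorem exists_four [Finite T] (hs : IsSimpleGroup T) (hna : ∃ a b : T, a * b ≠ b * a) :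
    ∃ V : Subgroup T, (∀ x ∈ V, x * x = 1) ∧ Nat.card V = 4 := by
  obtain ⟨V, hV⟩ := Cfsg.Agent.S0204.result (G := T) (by
    intro hc
    obtain ⟨a, b, hab⟩ := hna
    have := hc.isMulCommutative
    exact hab (this.is_comm.comm a b))
  refine ⟨V, fun x hx => ?_, hV.card_four⟩
  have h1 : (⟨x, hx⟩ : V) ^ 2 = 1 := by
    rw [← hV.exponent_two]
    exact Monoid.pow_exponent_eq_one _
  have h2 := congrArg Subtype.val h1
  simpa [pow_two] using h2

variable [Finite G]

theorem finite_T (e : N ≃* (Fin k → T)) (hk : 0 < k) : Finite T := by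
  have h1 : Finite (Fin k → T) := Finite.of_equiv _ e.toEquiv
  exact Finite.of_injective (fun t : T => (fun _ : Fin k => t)) fun a b h => congrFun h ⟨0, hk⟩

/-- **elementary abelian subgroups of order `4 ^ k`** -/
theorem exists_elem (h : EPS H N e) : ∃ (E : Subgroup G), (∀ x ∈ E, x * x = 1) ∧ Nat.card E = 4 ^ k := by
  have := finite_T e h.pos
  obtain ⟨V, hV, hc⟩ := exists_four h.simple h.nab
  refine ⟨(powHom e V).range, ?_, ?_⟩
  · rintro _ ⟨f, rfl⟩
    rw [← map_mul]
    have : f * f = 1 := by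
      funext i
      exact Subtype.ext (hV _ (f i).2)
    rw [this, map_one]
  · rw [← Nat.card_congr (MonoidHom.ofInjective (powHom_injective e V)).toEquiv, card_pow, hc]

/-- an elementary abelian 2-subgroup of `T` -/
theorem exists_elem_of (e : N ≃* (Fin k → T)) (V : Subgroup T) (hV : ∀ x ∈ V, x * x = 1) :
    ∃ (E : Subgroup G), (∀ x ∈ E, x * x = 1) ∧ Nat.card E = Nat.card V ^ k := by
  refine ⟨(powHom e V).range, ?_, ?_⟩
  · rintro _ ⟨f, rfl⟩
    rw [← map_mul]
    have : f * f = 1 := by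
      funext i
      exact Subtype.ext (hV _ (f i).2)
    rw [this, map_one]
  · rw [← Nat.card_congr (MonoidHom.ofInjective (powHom_injective e V)).toEquiv, card_pow]

/-- **`E₆(q)`, `²E₆(q)`, `F₄(q)`, `q` odd: `|V| ^ k ≤ 64`** -/
theorem pow_card_le (hG : InE6 G) (e : N ≃* (Fin k → T)) (V : Subgroup T) (hV : ∀ x ∈ V, x * x = 1) :
    Nat.card V ^ k ≤ 64 := by
  obtain ⟨E, hE, hc⟩ := exists_elem_of e V hV
  rw [← hc]
  exact hG.card_le E hE

/-- **`E₆(q)`, `²E₆(q)`, `F₄(q)`, `q` odd: `k ≤ 3`** -/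
theorem le_three (hG : InE6 G) (h : EPS H N e) : k ≤ 3 := by
  obtain ⟨E, hE, hc⟩ := exists_elem h
  have h1 := hG.card_le E hE
  rw [hc] at h1
  by_contra h4
  have h5 : 4 ^ 4 ≤ 4 ^ k := Nat.pow_le_pow_right (by norm_num) (by omega)
  omega

theorem no_four (hG : InE6 G) (h : EPS H N e) (hk : 4 ≤ k) : False := by
  have := le_three hG h
  omega

end eps

section final

/-- **`G₂(q)`, `q` odd: no `T ^ k`, `k ≥ 2`** -/
theorem g2_no {F : Type} [Field F] [Finite F] (h2 : (2 : F) ≠ 0) {H N : Subgroup ↥(chevG2.group F)} {T : Type} [Group T]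
    {k : ℕ} {e : N ≃* (Fin k → T)} (hk : 2 ≤ k) (h : EPS H N e) : False := by
  obtain ⟨E, hE, hc⟩ := exists_elem h
  have h1 := g2_card_le h2 (E := E) (fun x => Subtype.ext (hE x x.2)) E.subtype E.subtype_injective
  rw [hc] at h1
  have h5 : 4 ^ 2 ≤ 4 ^ k := Nat.pow_le_pow_right (by norm_num) hk
  omega

/-- **`³D₄(q)`, `q` odd: no `T ^ k`, `k ≥ 2`** -/
theorem td4_no {K : Type} [Field K] [Fintype K] {q : ℕ} (hq : Odd q) (hK : Fintype.card K = q ^ 3) (h2 : (2 : K) ≠ 0)
    {H N : Subgroup ↥(twistedD4 K q)} {T : Type} [Group T]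
    {k : ℕ} {e : N ≃* (Fin k → T)} (hk : 2 ≤ k) (h : EPS H N e) : False := by
  obtain ⟨E, hE, hc⟩ := exists_elem h
  have h1 := td4_card_le hq hK h2 (E := E) (fun x => Subtype.ext (hE x x.2)) E.subtype E.subtype_injective
  rw [hc] at h1
  have h5 : 4 ^ 2 ≤ 4 ^ k := Nat.pow_le_pow_right (by norm_num) hk
  omega

theorem crossk_g2 {F : Type} [Field F] [Finite F] (h2 : (2 : F) ≠ 0) (p : ℕ) : CrossK p ↥(chevG2.group F) :=
  fun _ _ _ _ _ _ hk h _ => g2_no h2 hk h

theorem crossk_td4 {K : Type} [Field K] [Fintype K] {q : ℕ} (hq : Odd q) (hK : Fintype.card K = q ^ 3)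
    (h2 : (2 : K) ≠ 0) (p : ℕ) : CrossK p ↥(twistedD4 K q) :=
  fun _ _ _ _ _ _ hk h _ => td4_no hq hK h2 hk h

end final

end Cfsg.Agent.H783.EX
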