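import Cfsg.Agent.H347.HX.D42.Main

/-!
# The involutions of `³D₄(2)` (helper783, S5745)

* `class_le` : an upper bound for a class of `A` in a normal subgroup `K`, the bounds of the other centralisers given;
* `d42_inv` : at most `69615 = 819 + 68796` involutions; those which do not lie in the class of `819` elements lie in
  a group of order `8` all of whose involutions are conjugate to them.
-/

set_option autoImplicit false
set_option maxRecDepth 100000
set_option Elab.async false

namespace Cfsg.Agent.H783.EX.D42Inv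

open Subgroup Cfsg Cfsg.Agent.H347.HX Cfsg.Agent.H347.HX.D42

/-! ### the count -/

/-- the lower bound for the union of the classes of a list -/
theorem sum_le {G : Type*} [Group G] [Finite G] : ∀ L : List (G × ℕ),
    (∀ p ∈ L, Nat.card ↥(centralizer ({p.1} : Set G)) ≤ p.2) → (L.map fun p => ConjClasses.mk p.1).Nodup →
      (L.map fun p => Nat.card G / p.2).sum ≤ Nat.card {y : G // ∃ p ∈ L, IsConj p.1 y} := by
  classical
  intro L
  induction L with
  | nil => intro _ _; simp
  | cons q L ih =>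
    intro hc hd
    rw [List.map_cons, List.nodup_cons] at hd
    have h1 := ih (fun p hp => hc p (List.mem_cons_of_mem _ hp)) hd.2
    have hq : Nat.card G / q.2 ≤ Nat.card {y : G // IsConj q.1 y} := by
      have h2 := Cfsg.Agent.H235.Ore.ClassList.card_class q.1
      have h4 := hc q List.mem_cons_self
      apply Nat.div_le_of_le_mul
      rw [← h2, mul_comm q.2]
      exact Nat.mul_le_mul_left _ h4
    rw [List.map_cons, List.sum_cons]
    refine (Nat.add_le_add hq h1).trans ?_
    rw [← Nat.card_sum]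
    refine Nat.card_le_card_of_injective (fun y : {y : G // IsConj q.1 y} ⊕ {y : G // ∃ p ∈ L, IsConj p.1 y} =>
      (Sum.elim (fun y => ⟨y.1, q, List.mem_cons_self, y.2⟩)
        (fun y => ⟨y.1, by obtain ⟨p, hp, h⟩ := y.2; exact ⟨p, List.mem_cons_of_mem _ hp, h⟩⟩) y :
          {y : G // ∃ p ∈ q :: L, IsConj p.1 y})) ?_
    rintro (⟨a, ha⟩ | ⟨a, ha⟩) (⟨b, hb⟩ | ⟨b, hb⟩) hab
    · have : a = b := congrArg Subtype.val hab
      subst this; rfl
    · exfalso
      have : a = b := congrArg Subtype.val hab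
      subst this
      obtain ⟨p, hp, h⟩ := hb
      exact hd.1 (List.mem_map.2 ⟨p, hp, ConjClasses.mk_eq_mk_iff_isConj.2 (h.trans ha.symm)⟩)
    · exfalso
      have : a = b := congrArg Subtype.val hab
      subst this
      obtain ⟨p, hp, h⟩ := ha
      exact hd.1 (List.mem_map.2 ⟨p, hp, ConjClasses.mk_eq_mk_iff_isConj.2 (h.trans hb.symm)⟩)
    · have : a = b := congrArg Subtype.val hab
      subst this; rfl

/-- **The upper bound for a class.** -/
theorem class_le {G : Type*} [Group G] [Finite G] {K : Subgroup G} (hK : K.Normal) (q : G) (hq : q ∈ K)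
    (L : List (G × ℕ)) (hm : ∀ p ∈ L, p.1 ∈ K) (hc : ∀ p ∈ L, Nat.card ↥(centralizer ({p.1} : Set G)) ≤ p.2)
    (hd : (L.map fun p => ConjClasses.mk p.1).Nodup) (hqL : ConjClasses.mk q ∉ L.map fun p => ConjClasses.mk p.1) :
    Nat.card {y : G // IsConj q y} + (L.map fun p => Nat.card G / p.2).sum ≤ Nat.card K := by
  classical
  refine (Nat.add_le_add_left (sum_le L hc hd) _).trans ?_
  rw [← Nat.card_sum]
  refine Nat.card_le_card_of_injective (fun y : {y : G // IsConj q y} ⊕ {y : G // ∃ p ∈ L, IsConj p.1 y} =>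
    (Sum.elim (fun y => ⟨y.1, by obtain ⟨c, hc⟩ := isConj_iff.1 y.2; rw [← hc]; exact hK.conj_mem _ hq c⟩)
      (fun y => ⟨y.1, by
        obtain ⟨p, hp, h⟩ := y.2
        obtain ⟨c, hc⟩ := isConj_iff.1 h
        rw [← hc]; exact hK.conj_mem _ (hm p hp) c⟩) y : ↥K)) ?_
  rintro (⟨a, ha⟩ | ⟨a, ha⟩) (⟨b, hb⟩ | ⟨b, hb⟩) hab
  · have : a = b := congrArg Subtype.val hab
    subst this; rfl
  · exfalso
    have : a = b := congrArg Subtype.val hab
    subst this
    obtain ⟨p, hp, h⟩ := hb
    exact hqL (List.mem_map.2 ⟨p, hp, ConjClasses.mk_eq_mk_iff_isConj.2 (h.trans ha.symm)⟩)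
  · exfalso
    have : a = b := congrArg Subtype.val hab
    subst this
    obtain ⟨p, hp, h⟩ := ha
    exact hqL (List.mem_map.2 ⟨p, hp, ConjClasses.mk_eq_mk_iff_isConj.2 (h.trans hb.symm)⟩)
  · have : a = b := congrArg Subtype.val hab
    subst this; rfl

/-- the classes of the list are different -/
theorem nodup : (lst.map fun p => ConjClasses.mk p.1).Nodup := by
  have hd := lst_key
  have hk : ∀ p ∈ lst, ts.map (cnc 819 co p.2.X) = ts.map (fun t => cn t p.1) := by
    intro p hp
    apply List.map_congr_left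
    intro t _
    exact (cn_eq (lst_Rp p hp) t).symm
  rw [List.map_congr_left hk] at hd
  let φ : ConjClasses ↥(Aut 819 co) → List ℕ := fun c =>
    Quotient.liftOn c (fun x => ts.map (fun t => cn t x)) fun a b hab => by
      apply List.map_congr_left
      intro t _
      exact cn_isConj t hab
  have hcomp : (lst.map fun p => ts.map (fun t => cn t p.1)) = (lst.map fun p => ConjClasses.mk p.1).map φ := by
    rw [List.map_map]
    rfl
  rw [hcomp] at hd
  exact List.Nodup.of_map _ hd

theorem cent_le {p : A × Cl} (hp : p ∈ lst) : Nat.card (centralizer ({p.1} : Set A)) ≤ bd p.2.l :=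
  card_le (lst_Rp p hp) hbase (lst_run p hp)

/-- the bound for a member of the list -/
theorem class_lst (q : A × Cl) (L : List (A × Cl)) (hp : (q :: L).Perm lst) :
    Nat.card {y : A // IsConj q.1 y} + (L.map fun p => Nat.card A / bd p.2.l).sum ≤ Nat.card K := by
  have hL : ∀ p ∈ L, p ∈ lst := fun p h => hp.subset (List.mem_cons_of_mem _ h)
  have h1 := (hp.map fun p : A × Cl => ConjClasses.mk p.1).nodup_iff.2 nodup
  rw [List.map_cons, List.nodup_cons] at h1
  have h2 := class_le normal_K q.1 (lst_mem q (hp.subset List.mem_cons_self)) (L.map fun p => (p.1, bd p.2.l))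
    (fun p h => by obtain ⟨p', h', rfl⟩ := List.mem_map.1 h; exact lst_mem p' (hL p' h'))
    (fun p h => by obtain ⟨p', h', rfl⟩ := List.mem_map.1 h; exact cent_le (hL p' h'))
    (by rw [List.map_map]; exact h1.2) (by rw [List.map_map]; exact h1.1)
  rw [List.map_map] at h2
  exact h2

/-- the rest of the list -/
noncomputable def rst : List (A × Cl) := lst.drop 3

theorem lst_eq : lst = (ev s [], c0) :: (ev s [3], c1) :: (ev s [0], c2) :: rst := rfl

theorem sum_rst : (rst.map fun p => Nat.card A / bd p.2.l).sum = 211271696 := by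
  rw [card_A]
  show [634023936 / bd c3.l, 634023936 / bd c4.l, 634023936 / bd c5.l, 634023936 / bd c6.l, 634023936 / bd c7.l, 634023936 / bd c8.l, 634023936 / bd c9.l, 634023936 / bd c10.l, 634023936 / bd c11.l, 634023936 / bd c12.l, 634023936 / bd c13.l, 634023936 / bd c14.l, 634023936 / bd c15.l, 634023936 / bd c16.l, 634023936 / bd c17.l, 634023936 / bd c18.l, 634023936 / bd c19.l, 634023936 / bd c20.l].sum = _
  decide +kernel

theorem bd0 : 634023936 / bd c0.l = 1 := by decide +kernel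
theorem bd1 : 634023936 / bd c1.l = 819 := by decide +kernel
theorem bd2 : 634023936 / bd c2.l = 68796 := by decide +kernel

theorem arith {n a s k x y z : ℕ} (h : n + (a / x + (a / y + s)) ≤ k) (ha : a = 634023936) (hs : s = 211271696)
    (hk : k = 211341312) (hx : 634023936 / x = 1) (hy : 634023936 / y = z) : n + z ≤ 69615 := by
  subst ha hs hk
  rw [hx, hy] at h
  omega

/-- the long root elements -/
theorem card_one : Nat.card {y : A // IsConj (ev s [3]) y} ≤ 819 := by
  have h := class_lst (ev s [3], c1) ((ev s [], c0) :: (ev s [0], c2) :: rst) (by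
    rw [lst_eq]; exact List.Perm.swap _ _ _)
  have h1 := arith h card_A sum_rst card_K bd0 bd2
  exact Nat.le_of_add_le_add_right (b := 68796) h1

/-- the short root elements -/
theorem card_two : Nat.card {y : A // IsConj (ev s [0]) y} ≤ 68796 := by
  have h := class_lst (ev s [0], c2) ((ev s [], c0) :: (ev s [3], c1) :: rst) (by
    rw [lst_eq]
    exact ((List.Perm.swap _ _ _).trans ((List.Perm.swap _ _ _).cons _)))
  have h1 := arith h card_A sum_rst card_K bd0 bd1
  exact Nat.le_of_add_le_add_right (b := 819) h1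

/-! ### the involutions -/

theorem pow_ne {w : List ℕ} {k : ℕ} (q : Fin 819) (h : Nat.beq (ap fl (wp w k) q) (ap fl [] q) = false) :
    (ev s w) ^ k ≠ 1 := by
  rw [poww]
  exact ne_of (v := []) q h

theorem of_two {p : A × Cl} (hp : p ∈ lst) (h1 : p.1 ≠ 1) (hk : p.1 ^ 2 = 1) :
    p = (ev s [3], c1) ∨ p = (ev s [0], c2) := by
  simp only [lst, List.mem_cons, List.not_mem_nil, or_false] at hp
  rcases hp with rfl | rfl | rfl | rfl | rfl | rfl | rfl | rfl | rfl | rfl | rfl | rfl | rfl | rfl | rfl | rfl | rfl | rfl | rfl | rfl | rfl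
  · exact absurd rfl h1
  · exact Or.inl rfl
  · exact Or.inr rfl
  all_goals exfalso
  all_goals first
    | exact absurd hk (pow_ne 0 (by decide +kernel))
    | exact absurd hk (pow_ne 1 (by decide +kernel))
    | exact absurd hk (pow_ne 2 (by decide +kernel))
    | exact absurd hk (pow_ne 3 (by decide +kernel))
    | exact absurd hk (pow_ne 4 (by decide +kernel))
    | exact absurd hk (pow_ne 5 (by decide +kernel))

/-- the involutions of `K` -/
theorem inv_K {x : A} (hx : x ∈ K) (h1 : x ≠ 1) (h2 : x * x = 1) : IsConj (ev s [3]) x ∨ IsConj (ev s [0]) x := by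
  obtain ⟨p, hp, h⟩ := classes hx
  obtain ⟨c, hc⟩ := isConj_iff.1 h
  have h3 : p.1 ≠ 1 := by
    intro h3
    apply h1
    rw [← hc, h3, mul_one, mul_inv_cancel]
  have h4 : p.1 ^ 2 = 1 := by
    have h5 : (c * p.1 * c⁻¹) ^ 2 = 1 := by rw [hc, pow_two, h2]
    rw [conj_pow] at h5
    have h6 : p.1 ^ 2 = c⁻¹ * (c * p.1 ^ 2 * c⁻¹) * c := by group
    rw [h6, h5, mul_one, inv_mul_cancel]
  rcases of_two hp h3 h4 with rfl | rfl
  · exact Or.inl h
  · exact Or.inr h

/-! ### the group of order eight -/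

/-- `x` lies in a group of order `8` all of whose involutions are conjugate to `x` -/
def Q8 {G : Type*} [Group G] (x : G) : Prop :=
  ∃ E : Subgroup G, Nat.card E = 8 ∧ x ∈ E ∧ (∀ y ∈ E, y * y = 1) ∧ ∀ y ∈ E, y ≠ 1 → IsConj x y

theorem Q8.map {G G' : Type*} [Group G] [Group G'] (φ : G ≃* G') {x : G} (h : Q8 x) : Q8 (φ x) := by
  obtain ⟨E, h1, h2, h3, h4⟩ := h
  refine ⟨E.map φ.toMonoidHom, ?_, ⟨x, h2, rfl⟩, ?_, ?_⟩
  · rw [← h1]
    exact (Nat.card_congr (E.equivMapOfInjective _ φ.injective).toEquiv).symm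
  · rintro _ ⟨y, hy, rfl⟩
    rw [← map_mul, h3 y hy, map_one]
  · rintro _ ⟨y, hy, rfl⟩ hne
    have h5 : y ≠ 1 := by
      rintro rfl
      exact hne (map_one _)
    exact φ.toMonoidHom.map_isConj (h4 y hy h5)

section

variable {G : Type*} [Group G] {d e n : G} (R : Cfsg.Agent.TrialityTwo.RelL d e n)

/-- the conjugates of `e` -/
def cj (d e : G) (i : ℕ) : G := (d ^ i)⁻¹ * e * d ^ i

theorem cj_add (i j : ℕ) : (d ^ i)⁻¹ * cj d e j * d ^ i = cj d e (i + j) := by
  unfold cj
  rw [add_comm, pow_add]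
  group

include R in
theorem cj_mod (i : ℕ) : cj d e (i % 7) = cj d e i := by
  unfold cj
  have h : d ^ i = d ^ (i % 7) := by
    conv_lhs => rw [← Nat.mod_add_div i 7, pow_add, pow_mul, R.d7, one_pow, mul_one]
  rw [h]

include R in
theorem cj_sq (i : ℕ) : cj d e i * cj d e i = 1 := by
  unfold cj
  have h1 : (d ^ i)⁻¹ * e * d ^ i * ((d ^ i)⁻¹ * e * d ^ i) = (d ^ i)⁻¹ * (e * e) * d ^ i := by group
  rw [h1, R.e2]; group

include R in
theorem cj_one (i : ℕ) : cj d e i * cj d e (i + 1) = cj d e (i + 3) ∧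
    cj d e (i + 1) * cj d e i = cj d e (i + 3) := by
  have h0 : cj d e 0 * cj d e 1 = cj d e 3 := by
    have h1 := R.e013
    have h2 : (d ^ 3)⁻¹ * e * d ^ 3 * ((d ^ 3)⁻¹ * e * d ^ 3) = 1 := cj_sq R 3
    have h3 : e * (d⁻¹ * e * d) = (d ^ 3)⁻¹ * e * d ^ 3 := by
      rw [mul_eq_one_iff_eq_inv] at h1 h2
      rw [h1, ← h2]
    simpa [cj] using h3
  have h0' : cj d e 1 * cj d e 0 = cj d e 3 := by
    rw [← h0]
    have := R.ecomm
    simpa [cj] using this.symm
  constructor
  · have h1 := cj_add (d := d) (e := e) i 3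
    rw [← h1, ← h0, ← cj_add i 1]
    have h2 := cj_add (d := d) (e := e) i 0
    rw [add_zero] at h2
    rw [← h2]
    group
  · have h1 := cj_add (d := d) (e := e) i 3
    rw [← h1, ← h0', ← cj_add i 1]
    have h2 := cj_add (d := d) (e := e) i 0
    rw [add_zero] at h2
    rw [← h2]
    group

include R in
/-- `e_i e_{i+3} = e_{i+1}` -/
theorem cj_three (i : ℕ) : cj d e i * cj d e (i + 3) = cj d e (i + 1) ∧
    cj d e (i + 3) * cj d e i = cj d e (i + 1) := by
  obtain ⟨h1, h2⟩ := cj_one R i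
  constructor
  · rw [← h1, ← mul_assoc, cj_sq R, one_mul]
  · rw [← h2, mul_assoc, cj_sq R, mul_one]

include R in
/-- `e_i e_{i+2} = e_{i+6}` -/
theorem cj_two (i : ℕ) : cj d e i * cj d e (i + 2) = cj d e (i + 6) ∧
    cj d e (i + 2) * cj d e i = cj d e (i + 6) := by
  have e1 : cj d e (i + 6 + 1) = cj d e i := by
    rw [← cj_mod R (i + 6 + 1), ← cj_mod R i]
    congr 1
    omega
  have e3 : cj d e (i + 6 + 3) = cj d e (i + 2) := by
    rw [← cj_mod R (i + 6 + 3), ← cj_mod R (i + 2)]
    congr 1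
    omega
  obtain ⟨h1, h2⟩ := cj_one R (i + 6)
  rw [e1, e3] at h1 h2
  constructor
  · rw [← h2, ← mul_assoc, cj_sq R, one_mul]
  · rw [← h1, mul_assoc, cj_sq R, mul_one]

include R in
/-- the products -/
theorem cj_mul (i k : ℕ) (hk0 : 0 < k) (hk : k < 7) : ∃ m, cj d e i * cj d e (i + k) = cj d e m := by
  have key : ∀ j, cj d e (i + 7) = cj d e i ∧ cj d e (i + k + j + 7) = cj d e (i + k + j) := by
    intro j
    constructor
    · rw [← cj_mod R (i + 7), ← cj_mod R i]; congr 1; omega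
    · rw [← cj_mod R (i + k + j + 7), ← cj_mod R (i + k + j)]; congr 1; omega
  have h7 := (key 0).1
  interval_cases k
  · exact ⟨_, (cj_one R i).1⟩
  · exact ⟨_, (cj_two R i).1⟩
  · exact ⟨_, (cj_three R i).1⟩
  · refine ⟨i + 4 + 1, ?_⟩
    rw [← h7]
    exact (cj_three R (i + 4)).2
  · refine ⟨i + 5 + 6, ?_⟩
    rw [← h7]
    exact (cj_two R (i + 5)).2
  · refine ⟨i + 6 + 3, ?_⟩
    rw [← h7]
    exact (cj_one R (i + 6)).2

include R in
theorem cj_mul' (i j : ℕ) : cj d e i * cj d e j = 1 ∨ ∃ m, cj d e i * cj d e j = cj d e m := by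
  by_cases h : i % 7 = j % 7
  · left
    rw [← cj_mod R i, ← cj_mod R j, h, cj_sq R]
  · right
    obtain ⟨m, hm⟩ := cj_mul R i ((j + 7 - i % 7) % 7) (by omega) (Nat.mod_lt _ (by norm_num))
    refine ⟨m, ?_⟩
    rw [← hm]
    congr 1
    rw [← cj_mod R j, ← cj_mod R (i + (j + 7 - i % 7) % 7)]
    congr 1
    omega

include R in
/-- the group of order `8` -/
theorem q8 (he : e ≠ 1) : Q8 e := by
  classical
  have hne : ∀ i, cj d e i ≠ 1 := by
    intro i h
    apply he
    have h1 : e = d ^ i * cj d e i * (d ^ i)⁻¹ := by unfold cj; group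
    rw [h1, h, mul_one, mul_inv_cancel]
  have hinj : ∀ i j, cj d e i = cj d e j → i % 7 = j % 7 := by
    intro i j h
    by_contra hne'
    obtain ⟨m, hm⟩ := cj_mul R i ((j + 7 - i % 7) % 7) (by omega) (Nat.mod_lt _ (by norm_num))
    have h1 : cj d e (i + (j + 7 - i % 7) % 7) = cj d e j := by
      rw [← cj_mod R j, ← cj_mod R (i + (j + 7 - i % 7) % 7)]
      congr 1
      omega
    rw [h1, h, cj_sq R] at hm
    exact hne m hm.symm
  let E : Subgroup G :=
    { carrier := {y | y = 1 ∨ ∃ i, y = cj d e i}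
      one_mem' := Or.inl rfl
      mul_mem' := by
        rintro a b (rfl | ⟨i, rfl⟩) (rfl | ⟨j, rfl⟩)
        · left; rw [mul_one]
        · right; exact ⟨j, by rw [one_mul]⟩
        · right; exact ⟨i, by rw [mul_one]⟩
        · exact cj_mul' R i j
      inv_mem' := by
        rintro a (rfl | ⟨i, rfl⟩)
        · left; rw [inv_one]
        · right; exact ⟨i, inv_eq_of_mul_eq_one_left (cj_sq R i)⟩ }
  have hE : ∀ y, y ∈ E ↔ y = 1 ∨ ∃ i, y = cj d e i := fun y => Iff.rfl
  refine ⟨E, ?_, (hE _).2 (Or.inr ⟨0, by unfold cj; rw [pow_zero, inv_one, one_mul, mul_one]⟩), ?_, ?_⟩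
  · let f : Option (Fin 7) → E := fun o => match o with
      | none => 1
      | some i => ⟨cj d e i, (hE _).2 (Or.inr ⟨i, rfl⟩)⟩
    have hf : Function.Bijective f := by
      constructor
      · rintro (_ | i) (_ | j) hij
        · rfl
        · exact absurd (congrArg Subtype.val hij).symm (hne j)
        · exact absurd (congrArg Subtype.val hij) (hne i)
        · have h1 := hinj i j (congrArg Subtype.val hij)
          rw [Nat.mod_eq_of_lt i.2, Nat.mod_eq_of_lt j.2] at h1
          rw [Fin.ext h1]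
      · rintro ⟨y, hy⟩
        rcases (hE y).1 hy with rfl | ⟨i, rfl⟩
        · exact ⟨none, rfl⟩
        · refine ⟨some ⟨i % 7, Nat.mod_lt _ (by norm_num)⟩, Subtype.ext ?_⟩
          exact cj_mod R i
    rw [← Nat.card_congr (Equiv.ofBijective f hf), Nat.card_eq_fintype_card]
    rfl
  · intro y hy
    rcases (hE y).1 hy with rfl | ⟨i, rfl⟩
    · rw [mul_one]
    · exact cj_sq R i
  · intro y hy hy1
    rcases (hE y).1 hy with rfl | ⟨i, rfl⟩
    · exact absurd rfl hy1
    · rw [isConj_iff]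
      exact ⟨(d ^ i)⁻¹, by unfold cj; rw [inv_inv]⟩

end

/-- the relations in `K` -/
theorem mem_gd : gd ∈ K := Subgroup.subset_closure (by simp)
theorem mem_ge : ge ∈ K := Subgroup.subset_closure (by simp)
theorem mem_gn : gn ∈ K := Subgroup.subset_closure (by simp)

theorem relK : Cfsg.Agent.TrialityTwo.RelL (⟨gd, mem_gd⟩ : K) ⟨ge, mem_ge⟩ ⟨gn, mem_gn⟩ where
  d7 := Subtype.ext relL.d7
  e2 := Subtype.ext relL.e2
  n2 := Subtype.ext relL.n2
  e013 := Subtype.ext relL.e013
  ecomm := Subtype.ext relL.ecomm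
  nd := Subtype.ext relL.nd
  ne := Subtype.ext relL.ne

theorem ge_ne : ge ≠ 1 := by
  intro h0
  have h1 : (ev s [2]) ^ 1 = (1 : A) := by rw [pow_one]; exact h0
  first
    | exact (pow_ne (w := [2]) (k := 1) 0 (by decide +kernel)) h1
    | exact (pow_ne (w := [2]) (k := 1) 1 (by decide +kernel)) h1
    | exact (pow_ne (w := [2]) (k := 1) 2 (by decide +kernel)) h1

/-- `gn` and `ge` are conjugate -/
theorem gn_conj : (gn * ge) * gn * (gn * ge)⁻¹ = ge := by
  have h1 := relL.ne
  have h2 := relL.e2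
  have h3 := relL.n2
  have h4 : (gn * ge) ^ 3 = (gn * ge) * gn * (gn * ge)⁻¹ * (gn * ge) * ge * (gn * ge) := by
    rw [pow_succ, pow_two]; group
  have e1 : ge⁻¹ = ge := inv_eq_of_mul_eq_one_left h2
  have e2 : gn⁻¹ = gn := inv_eq_of_mul_eq_one_left h3
  rw [mul_inv_rev, e1, e2]
  have h5 : gn * ge * gn * (ge * gn) * ge = 1 := by
    have : gn * ge * gn * (ge * gn) * ge = (gn * ge) ^ 3 := by rw [pow_succ, pow_two]; simp only [mul_assoc]
    rw [this, h1]
  rw [mul_eq_one_iff_eq_inv, e1] at h5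
  exact h5

theorem conj_aux {G : Type*} [Group G] (c g n e : G) (h : g * n * g⁻¹ = e) :
    c * g⁻¹ * e * (c * g⁻¹)⁻¹ = c * n * c⁻¹ := by
  rw [← h]; group

/-- **The classes `c2` lie in pure groups of order `8`.** -/
theorem q8_K {x : K} (h : IsConj (ev s [0]) (x : A)) : Q8 x := by
  obtain ⟨c, hc⟩ := isConj_iff.1 h
  have hn := normal_K
  have h1 : Q8 (⟨ge, mem_ge⟩ : K) := q8 relK fun h0 => ge_ne (congrArg Subtype.val h0)
  have h2 := h1.map (MulAut.conjNormal (c * (gn * ge)⁻¹) : MulAut K)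
  have h3 : (MulAut.conjNormal (c * (gn * ge)⁻¹) : MulAut K) ⟨ge, mem_ge⟩ = x := by
    apply Subtype.ext
    rw [MulAut.conjNormal_apply]
    show c * (gn * ge)⁻¹ * ge * (c * (gn * ge)⁻¹)⁻¹ = (x : A)
    rw [← hc]
    exact conj_aux c _ _ _ gn_conj
  rwa [h3] at h2

/-- **The involutions of `³D₄(2)`.** -/
theorem d42_inv {F : Type*} [Field F] [Fintype F] (hF : Fintype.card F = 8) {T : Type*} [Group T]
    (e : T ≃* Lie.twistedD4 F 2) : Nat.card {x : T // x ≠ 1 ∧ x * x = 1} ≤ 69615 ∧
    ∃ P : T → Prop, Nat.card {x : T // P x} ≤ 819 ∧ ∀ x, x ≠ 1 → x * x = 1 → ¬ P x →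
      ∃ E : Subgroup T, Nat.card E = 8 ∧ x ∈ E ∧ (∀ y ∈ E, y * y = 1) ∧ ∀ y ∈ E, y ≠ 1 → IsConj x y := by
  obtain ⟨φ⟩ := iso F hF
  let ψ : T ≃* K := e.trans φ.symm
  have hfA : Finite A := inferInstance
  have hp : Nat.card {x : T // IsConj (ev s [3]) ((ψ x : K) : A)} ≤ 819 := by
    refine le_trans ?_ card_one
    refine Nat.card_le_card_of_injective (fun x => ⟨((ψ x.1 : K) : A), x.2⟩) fun a b hab => ?_
    have h := congrArg Subtype.val hab
    exact Subtype.ext (ψ.injective (Subtype.ext h))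
  have hp2 : Nat.card {x : T // IsConj (ev s [0]) ((ψ x : K) : A)} ≤ 68796 := by
    refine le_trans ?_ card_two
    refine Nat.card_le_card_of_injective (fun x => ⟨((ψ x.1 : K) : A), x.2⟩) fun a b hab => ?_
    have h := congrArg Subtype.val hab
    exact Subtype.ext (ψ.injective (Subtype.ext h))
  have hfT : Finite T := Finite.of_equiv _ ψ.symm.toEquiv
  have hinv : ∀ x : T, x ≠ 1 → x * x = 1 →
      IsConj (ev s [3]) ((ψ x : K) : A) ∨ IsConj (ev s [0]) ((ψ x : K) : A) := by
    intro x hx1 hx2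
    refine inv_K (ψ x).2 (fun h => hx1 (ψ.injective ?_)) ?_
    · rw [map_one]; exact Subtype.ext h
    · have h := congrArg ψ hx2
      rw [map_mul, map_one] at h
      exact congrArg Subtype.val h
  refine ⟨?_, fun x => IsConj (ev s [3]) ((ψ x : K) : A), hp, fun x hx1 hx2 hP => ?_⟩
  · classical
    refine le_trans ?_ (Nat.add_le_add hp hp2)
    rw [← Nat.card_sum]
    refine Nat.card_le_card_of_injective (fun x : {x : T // x ≠ 1 ∧ x * x = 1} =>
      if h : IsConj (ev s [3]) ((ψ x.1 : K) : A) then Sum.inl (⟨x.1, h⟩ : {x : T // IsConj (ev s [3]) ((ψ x : K) : A)})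
      else Sum.inr (⟨x.1, (hinv x.1 x.2.1 x.2.2).resolve_left h⟩ : {x : T // IsConj (ev s [0]) ((ψ x : K) : A)})) ?_
    intro a b hab
    simp only at hab
    split_ifs at hab with h1 h2 h2
    · have h := congrArg Subtype.val (Sum.inl.inj hab)
      exact Subtype.ext h
    · have h := congrArg Subtype.val (Sum.inr.inj hab)
      exact Subtype.ext h
  · have h := (q8_K ((hinv x hx1 hx2).resolve_left hP)).map ψ.symm
    rw [ψ.symm_apply_apply] at h
    exact h

end Cfsg.Agent.H783.EX.D42Inv
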