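import Cfsg.Agent.H783.EX.LSix
import Cfsg.Prelude.Def_Classical

/-!
# S5745, `k ≥ 2`, odd characteristic: simple groups of 2-rank at least 4 (helper783)

`Rk4 T` : `T` has an elementary abelian 2-subgroup of order at least 16. Then `T ^ k`, `k ≥ 2`, is not the socle of an
extremely primitive stabiliser in `E₆(q)`, `²E₆(q)`, `F₄(q)`, `q` odd (`Rk4.no`).

* `rk4_psl` : `PSL_(m+n)(q')`, `q'` even, `q' ^ (m n) ≥ 16` (`L₃(4)`, `L₂(64)`, `L₄(2)`, ...);
* `rk4_psp` : `PSp_(2m)(q')`, `q'` even, `m ≥ 3`.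
-/

set_option autoImplicit false

set_option linter.unusedSectionVars false

namespace Cfsg.Agent.H783.EX

open Cfsg Cfsg.Lie Matrix Cfsg.Agent.H357.EP
open Cfsg.Agent.H284 Cfsg.Agent.H209.EPX Cfsg.Agent.H542.EPX

/-- 2-rank at least 4 -/
def Rk4 (T : Type*) [Group T] : Prop := ∃ V : Subgroup T, (∀ x ∈ V, x * x = 1) ∧ 16 ≤ Nat.card V

theorem Rk4.of_hom {T A : Type*} [Group T] [Group A] (hA : ∀ a : A, a * a = 1) (f : A →* T)
    (hf : Function.Injective f) (hc : 16 ≤ Nat.card A) : Rk4 T := by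
  have h1 : Nat.card f.range = Nat.card A := (Nat.card_congr (MonoidHom.ofInjective hf).toEquiv).symm
  refine ⟨f.range, ?_, by rwa [h1]⟩
  rintro _ ⟨a, rfl⟩
  rw [← map_mul, hA, map_one]

theorem Rk4.mono {S T : Type*} [Group S] [Group T] (h : Rk4 S) (f : S →* T) (hf : Function.Injective f) : Rk4 T := by
  obtain ⟨V, hV, hc⟩ := h
  exact Rk4.of_hom (A := V) (fun a => Subtype.ext (hV a a.2)) (f.comp V.subtype) (hf.comp Subtype.val_injective) hc

theorem Rk4.congr {S T : Type*} [Group S] [Group T] (e : T ≃* S) (h : Rk4 S) : Rk4 T :=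
  h.mono e.symm.toMonoidHom e.symm.injective

/-- **`k ≥ 2`, `T` of 2-rank at least 4: impossible in `E₆(q)`, `²E₆(q)`, `F₄(q)`, `q` odd** -/
theorem Rk4.no {G : Type*} [Group G] [Finite G] (hG : InE6 G) {N : Subgroup G} {T : Type} [Group T]
    {k : ℕ} {e : N ≃* (Fin k → T)} (hT : Rk4 T) (hk : 2 ≤ k) : False := by
  obtain ⟨V, hV, hc⟩ := hT
  have h1 := pow_card_le hG e V hV
  have h2 : 16 ^ 2 ≤ Nat.card V ^ k := (Nat.pow_le_pow_left hc 2).trans (Nat.pow_le_pow_right (by omega) hk)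
  omega

theorem Rk4.eps_no {G : Type*} [Group G] [Finite G] (hG : InE6 G) {H N : Subgroup G} {T : Type} [Group T]
    {k : ℕ} {e : N ≃* (Fin k → T)} (_ : EPS H N e) (hT : Rk4 T) (hk : 2 ≤ k) : False :=
  Rk4.no (e := e) hG hT hk

section psl

variable {F : Type*} [Field F]

/-- the unipotent radical of the stabiliser of an `m`-space -/
def uPSL (m n : ℕ) : Multiplicative (Matrix (Fin m) (Fin n) F) →* Matrix.SpecialLinearGroup (Fin (m + n)) F :=
  MonoidHom.mk' (fun A => ⟨Matrix.reindex finSumFinEquiv finSumFinEquiv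
      (Matrix.fromBlocks 1 A.toAdd 0 1), by
    rw [Matrix.det_reindex_self, Matrix.det_fromBlocks_zero₂₁, Matrix.det_one, Matrix.det_one, one_mul]⟩) (by
    intro A B
    apply Subtype.ext
    have h : Matrix.reindex finSumFinEquiv finSumFinEquiv
        (Matrix.fromBlocks (1 : Matrix (Fin m) (Fin m) F) (A * B).toAdd 0 (1 : Matrix (Fin n) (Fin n) F)) =
        Matrix.reindex finSumFinEquiv finSumFinEquiv
          (Matrix.fromBlocks (1 : Matrix (Fin m) (Fin m) F) A.toAdd 0 (1 : Matrix (Fin n) (Fin n) F)) *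
        Matrix.reindex finSumFinEquiv finSumFinEquiv
          (Matrix.fromBlocks (1 : Matrix (Fin m) (Fin m) F) B.toAdd 0 (1 : Matrix (Fin n) (Fin n) F)) := by
      rw [Matrix.reindex_apply, Matrix.reindex_apply, Matrix.reindex_apply, Matrix.submatrix_mul_equiv,
        Matrix.fromBlocks_multiply]
      congr 1
      simp [add_comm]
    exact h)

theorem uPSL_ker {m n : ℕ} (A : Multiplicative (Matrix (Fin m) (Fin n) F))
    (h : uPSL m n A ∈ Subgroup.center (Matrix.SpecialLinearGroup (Fin (m + n)) F)) : A = 1 := by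
  obtain ⟨r, -, hr⟩ := Matrix.SpecialLinearGroup.mem_center_iff.1 h
  apply Multiplicative.toAdd.injective
  show A.toAdd = 0
  ext i j
  have h1 := congrFun (congrFun hr (finSumFinEquiv (Sum.inl i))) (finSumFinEquiv (Sum.inr j))
  have h2 : (uPSL m n A : Matrix (Fin (m + n)) (Fin (m + n)) F) (finSumFinEquiv (Sum.inl i))
      (finSumFinEquiv (Sum.inr j)) = A.toAdd i j := by
    show Matrix.reindex finSumFinEquiv finSumFinEquiv (Matrix.fromBlocks 1 A.toAdd 0 1) _ _ = _
    rw [Matrix.reindex_apply, Matrix.submatrix_apply, Equiv.symm_apply_apply, Equiv.symm_apply_apply,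
      Matrix.fromBlocks_apply₁₂]
  rw [h2, Matrix.scalar_apply, Matrix.diagonal_apply_ne] at h1
  · exact h1.symm
  · intro he
    have := finSumFinEquiv.injective he
    simp at this

theorem card_mat (m n : ℕ) [Finite F] : Nat.card (Multiplicative (Matrix (Fin m) (Fin n) F)) = Nat.card F ^ (n * m) := by
  show Nat.card (Fin m → Fin n → F) = _
  have h3 : Nat.card (Fin n → F) = Nat.card F ^ n := by rw [Nat.card_pi]; simp
  rw [Nat.card_pi]
  simp only [h3, Finset.prod_const, Finset.card_univ, Fintype.card_fin]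
  rw [← pow_mul]

theorem add_self_mat [CharP F 2] {m n : Type*} (a : Multiplicative (Matrix m n F)) : a * a = 1 := by
  apply Multiplicative.toAdd.injective
  show a.toAdd + a.toAdd = 0
  ext i j
  exact CharTwo.add_self_eq_zero _

/-- **`PSL_(m+n)(q')`, `q'` even** -/
theorem rk4_psl [Finite F] [CharP F 2] (m n : ℕ) (h : 16 ≤ Nat.card F ^ (n * m)) :
    Rk4 (Matrix.ProjectiveSpecialLinearGroup (Fin (m + n)) F) := by
  refine Rk4.of_hom (A := Multiplicative (Matrix (Fin m) (Fin n) F)) add_self_mat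
    ((QuotientGroup.mk' _).comp (uPSL m n)) ?_ ?_
  · rw [injective_iff_map_eq_one]
    intro A hA
    exact uPSL_ker A ((QuotientGroup.eq_one_iff _).1 hA)
  · rwa [card_mat]

/-- `L₂(q')`, `q' ≥ 16` even -/
theorem rk4_psl2 [Finite F] [CharP F 2] (h : 16 ≤ Nat.card F) :
    Rk4 (Matrix.ProjectiveSpecialLinearGroup (Fin 2) F) := rk4_psl 1 1 (by simpa using h)

/-- `L₃(q')`, `q' ≥ 4` even -/
theorem rk4_psl3 [Finite F] [CharP F 2] (h : 4 ≤ Nat.card F) :
    Rk4 (Matrix.ProjectiveSpecialLinearGroup (Fin 3) F) := rk4_psl 2 1 (by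
  calc 16 = 4 ^ 2 := by norm_num
    _ ≤ _ := Nat.pow_le_pow_left h 2)

/-- `L₄(q')`, `q'` even -/
theorem rk4_psl4 [Finite F] [CharP F 2] :
    Rk4 (Matrix.ProjectiveSpecialLinearGroup (Fin 4) F) := rk4_psl 2 2 (by
  calc 16 = 2 ^ 4 := by norm_num
    _ ≤ _ := Nat.pow_le_pow_left (Finite.one_lt_card : 1 < Nat.card F) 4)

end psl

section psp

variable {F : Type*} [Field F] {m : ℕ}

theorem mem_up (S : Matrix (Fin m) (Fin m) F) (hS : Sᵀ = S) :
    Matrix.fromBlocks 1 S 0 1 ∈ Matrix.symplecticGroup (Fin m) F := by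
  rw [SymplecticGroup.mem_iff, Matrix.J, Matrix.fromBlocks_transpose, Matrix.fromBlocks_multiply,
    Matrix.fromBlocks_multiply]
  simp [hS]

theorem mem_lo (S : Matrix (Fin m) (Fin m) F) (hS : Sᵀ = S) :
    Matrix.fromBlocks 1 0 S 1 ∈ Matrix.symplecticGroup (Fin m) F := by
  rw [SymplecticGroup.mem_iff, Matrix.J, Matrix.fromBlocks_transpose, Matrix.fromBlocks_multiply,
    Matrix.fromBlocks_multiply]
  simp [hS]

/-- the symmetric matrices -/
def symS (m : ℕ) (F : Type*) [Field F] : AddSubgroup (Matrix (Fin m) (Fin m) F) where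
  carrier := {S | Sᵀ = S}
  zero_mem' := by simp
  add_mem' := by
    intro a b ha hb
    simp only [Set.mem_ofPred_eq] at *
    rw [Matrix.transpose_add, ha, hb]
  neg_mem' := by
    intro a ha
    simp only [Set.mem_ofPred_eq] at *
    rw [Matrix.transpose_neg, ha]

theorem mul_up (A B : Matrix (Fin m) (Fin m) F) :
    (Matrix.fromBlocks 1 (A + B) 0 1 : Matrix (Fin m ⊕ Fin m) (Fin m ⊕ Fin m) F) =
      (Matrix.fromBlocks 1 A 0 1 : Matrix (Fin m ⊕ Fin m) (Fin m ⊕ Fin m) F) *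
        (Matrix.fromBlocks 1 B 0 1 : Matrix (Fin m ⊕ Fin m) (Fin m ⊕ Fin m) F) := by
  rw [Matrix.fromBlocks_multiply]
  congr 1 <;> simp [add_comm]

theorem zero_of_comm (A : Matrix (Fin m) (Fin m) F)
    (h : (Matrix.fromBlocks 1 0 1 1 : Matrix (Fin m ⊕ Fin m) (Fin m ⊕ Fin m) F) *
      (Matrix.fromBlocks 1 A 0 1 : Matrix (Fin m ⊕ Fin m) (Fin m ⊕ Fin m) F) =
      (Matrix.fromBlocks 1 A 0 1 : Matrix (Fin m ⊕ Fin m) (Fin m ⊕ Fin m) F) *
      (Matrix.fromBlocks 1 0 1 1 : Matrix (Fin m ⊕ Fin m) (Fin m ⊕ Fin m) F)) : A = 0 := by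
  rw [Matrix.fromBlocks_multiply, Matrix.fromBlocks_multiply, Matrix.fromBlocks_inj] at h
  simpa using h.1.symm

/-- the unipotent radical of the stabiliser of a maximal isotropic space -/
def uPSp (m : ℕ) : Multiplicative (symS m F) →* Matrix.symplecticGroup (Fin m) F :=
  MonoidHom.mk' (fun A => ⟨Matrix.fromBlocks 1 (A.toAdd : Matrix (Fin m) (Fin m) F) 0 1, mem_up _ A.toAdd.2⟩) (by
    intro A B
    apply Subtype.ext
    exact mul_up _ _)

theorem uPSp_ker {m : ℕ} (A : Multiplicative (symS m F))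
    (h : uPSp m A ∈ Subgroup.center (Matrix.symplecticGroup (Fin m) F)) : A = 1 := by
  have h1 := Subgroup.mem_center_iff.1 h ⟨_, mem_lo (1 : Matrix (Fin m) (Fin m) F) (by simp)⟩
  apply Multiplicative.toAdd.injective
  apply Subtype.ext
  exact zero_of_comm _ (congrArg Subtype.val h1)

/-- there are at least `2 ^ 6` symmetric `3 × 3` matrices -/
theorem card_symS [Finite F] (hm : 3 ≤ m) : 64 ≤ Nat.card (Multiplicative (symS m F)) := by
  have : Finite (Matrix (Fin m) (Fin m) F) := inferInstance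
  -- diagonal matrices and the three off-diagonal entries
  let f : (Fin 6 → F) → symS m F := fun a => ⟨Matrix.of fun i j : Fin m =>
      if i.1 = 0 ∧ j.1 = 0 then a 0 else if i.1 = 1 ∧ j.1 = 1 then a 1 else if i.1 = 2 ∧ j.1 = 2 then a 2 else
      if (i.1 = 0 ∧ j.1 = 1) ∨ (i.1 = 1 ∧ j.1 = 0) then a 3 else
      if (i.1 = 0 ∧ j.1 = 2) ∨ (i.1 = 2 ∧ j.1 = 0) then a 4 else
      if (i.1 = 1 ∧ j.1 = 2) ∨ (i.1 = 2 ∧ j.1 = 1) then a 5 else 0, by
    show Matrix.transpose _ = _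
    ext i j
    simp only [Matrix.transpose_apply, Matrix.of_apply]
    simp only [and_comm (a := j.1 = 0) (b := i.1 = 0), and_comm (a := j.1 = 1) (b := i.1 = 1),
      and_comm (a := j.1 = 2) (b := i.1 = 2), and_comm (a := j.1 = 0) (b := i.1 = 1),
      and_comm (a := j.1 = 1) (b := i.1 = 0), and_comm (a := j.1 = 0) (b := i.1 = 2),
      and_comm (a := j.1 = 2) (b := i.1 = 0), and_comm (a := j.1 = 1) (b := i.1 = 2),
      and_comm (a := j.1 = 2) (b := i.1 = 1), or_comm (a := i.1 = 1 ∧ j.1 = 0), or_comm (a := i.1 = 2 ∧ j.1 = 0),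
      or_comm (a := i.1 = 2 ∧ j.1 = 1)]⟩
  have hf : Function.Injective f := by
    intro a b hab
    have h1 : ∀ i j : Fin m, (f a : Matrix (Fin m) (Fin m) F) i j = (f b : Matrix (Fin m) (Fin m) F) i j := by
      intro i j
      rw [hab]
    have e0 := h1 ⟨0, by omega⟩ ⟨0, by omega⟩
    have e1 := h1 ⟨1, by omega⟩ ⟨1, by omega⟩
    have e2 := h1 ⟨2, by omega⟩ ⟨2, by omega⟩
    have e3 := h1 ⟨0, by omega⟩ ⟨1, by omega⟩
    have e4 := h1 ⟨0, by omega⟩ ⟨2, by omega⟩
    have e5 := h1 ⟨1, by omega⟩ ⟨2, by omega⟩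
    simp [f] at e0 e1 e2 e3 e4 e5
    funext i
    fin_cases i
    · exact e0
    · exact e1
    · exact e2
    · exact e3
    · exact e4
    · exact e5
  have h2 : Nat.card (Fin 6 → F) ≤ Nat.card (symS m F) := Nat.card_le_card_of_injective f hf
  have h3 : Nat.card (Fin 6 → F) = Nat.card F ^ 6 := by rw [Nat.card_pi]; simp
  have h4 : 2 ^ 6 ≤ Nat.card F ^ 6 := Nat.pow_le_pow_left (Finite.one_lt_card : 1 < Nat.card F) 6
  show 64 ≤ Nat.card (symS m F)
  omega

/-- **`PSp_(2m)(q')`, `q'` even, `m ≥ 3`** -/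
theorem rk4_psp [Finite F] [CharP F 2] (hm : 3 ≤ m) : Rk4 (PSp m F) := by
  refine Rk4.of_hom (A := Multiplicative (symS m F)) ?_ ((QuotientGroup.mk' _).comp (uPSp m)) ?_ ?_
  · intro a
    apply Multiplicative.toAdd.injective
    apply Subtype.ext
    show (a.toAdd : Matrix (Fin m) (Fin m) F) + a.toAdd = 0
    ext i j
    exact CharTwo.add_self_eq_zero _
  · rw [injective_iff_map_eq_one]
    intro A hA
    exact uPSp_ker A ((QuotientGroup.eq_one_iff _).1 hA)
  · have := card_symS (F := F) hm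
    omega

end psp

end Cfsg.Agent.H783.EX
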