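import Cfsg.Agent.H783.EX.Rk16
import Cfsg.Agent.GH.LowRankB
import Cfsg.Agent.GH.LowRankMathieu

/-!
# S5745, `k ≥ 2`, odd characteristic: `A_n`, `n ≥ 8`, and `M₂₂` have 2-rank at least 4 (helper783)
-/

set_option autoImplicit false

namespace Cfsg.Agent.H783.EX

open Cfsg

/-! ### `A_n`, `n ≥ 8` -/

open Cfsg.Agent.GH.LowRank in
theorem rk4_alt8 : Rk4 (alternatingGroup (Fin 8)) := by
  let f : E4 →* alternatingGroup (Fin 8) := MonoidHom.mk'
    (fun e => ⟨pE e, Equiv.Perm.mem_alternatingGroup.2 (pE_sign _ _ _ _)⟩) (by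
      intro x y
      apply Subtype.ext
      exact pE_mul _ _ _ _ _ _ _ _)
  refine Rk4.of_hom (A := E4) ?_ f ?_ ?_
  · intro e
    have h2 : ∀ a : ZMod 2, a + a = 0 := by decide
    apply Multiplicative.toAdd.injective
    change Multiplicative.toAdd e + Multiplicative.toAdd e = 0
    exact Prod.ext (h2 _) (Prod.ext (h2 _) (Prod.ext (h2 _) (h2 _)))
  · rw [injective_iff_map_eq_one]
    intro e he
    obtain ⟨h1, h2, h3, h4⟩ := pE_one _ _ _ _ (congrArg Subtype.val he)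
    exact Multiplicative.toAdd.injective
      (Prod.ext h1 (Prod.ext h2 (Prod.ext h3 h4)))
  · rw [Nat.card_eq_fintype_card]
    exact le_of_eq (by rfl)

/-- **`A_n`, `n ≥ 8`** -/
theorem rk4_alt {n : ℕ} (hn : 8 ≤ n) : Rk4 (alternatingGroup (Fin n)) := by
  obtain ⟨f, hf⟩ := Cfsg.Agent.GH.LowRank.exists_alt_hom hn
  exact rk4_alt8.mono f hf

/-! ### Four involutions -/

/-- `x ↦ a ^ x` -/
def pw {T : Type*} [Group T] (a : T) (x : ZMod 2) : T := if x = 0 then 1 else a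

theorem pw_add {T : Type*} [Group T] {a : T} (ha : a * a = 1) (x y : ZMod 2) : pw a (x + y) = pw a x * pw a y := by
  unfold pw
  have h : ∀ x y : ZMod 2, (x = 0 ∧ y = 0 ∧ x + y = 0) ∨ (x = 0 ∧ y ≠ 0 ∧ x + y ≠ 0) ∨ (x ≠ 0 ∧ y = 0 ∧ x + y ≠ 0) ∨
    (x ≠ 0 ∧ y ≠ 0 ∧ x + y = 0) := by decide
  rcases h x y with ⟨h1, h2, h3⟩ | ⟨h1, h2, h3⟩ | ⟨h1, h2, h3⟩ | ⟨h1, h2, h3⟩
  · rw [if_pos h1, if_pos h2, if_pos h3, one_mul]
  · rw [if_pos h1, if_neg h2, if_neg h3, one_mul]
  · rw [if_neg h1, if_pos h2, if_neg h3, mul_one]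
  · rw [if_neg h1, if_neg h2, if_pos h3, ha]

theorem pw_comm {T : Type*} [Group T] {a b : T} (h : a * b = b * a) (x y : ZMod 2) : Commute (pw a x) (pw b y) := by
  unfold pw
  split_ifs
  · exact Commute.one_left _
  · exact Commute.one_left _
  · exact Commute.one_right _
  · exact h

theorem Rk4.of_four {T : Type*} [Group T] {a b c d : T} (ha : a * a = 1) (hb : b * b = 1) (hc : c * c = 1)
    (hd : d * d = 1) (hab : a * b = b * a) (hac : a * c = c * a) (had : a * d = d * a) (hbc : b * c = c * b)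
    (hbd : b * d = d * b) (hcd : c * d = d * c)
    (ind : ∀ x y z w : ZMod 2, pw a x * (pw b y * (pw c z * pw d w)) = 1 → x = 0 ∧ y = 0 ∧ z = 0 ∧ w = 0) : Rk4 T := by
  let f : Multiplicative (ZMod 2 × ZMod 2 × ZMod 2 × ZMod 2) →* T := MonoidHom.mk'
    (fun e => pw a e.toAdd.1 * (pw b e.toAdd.2.1 * (pw c e.toAdd.2.2.1 * pw d e.toAdd.2.2.2))) (by
      rintro x y
      show pw a (x.toAdd.1 + y.toAdd.1) * (pw b (x.toAdd.2.1 + y.toAdd.2.1) * (pw c (x.toAdd.2.2.1 + y.toAdd.2.2.1) *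
        pw d (x.toAdd.2.2.2 + y.toAdd.2.2.2))) = _
      rw [pw_add ha, pw_add hb, pw_add hc, pw_add hd]
      generalize x.toAdd.1 = x1
      generalize x.toAdd.2.1 = x2
      generalize x.toAdd.2.2.1 = x3
      generalize x.toAdd.2.2.2 = x4
      generalize y.toAdd.1 = y1
      generalize y.toAdd.2.1 = y2
      generalize y.toAdd.2.2.1 = y3
      generalize y.toAdd.2.2.2 = y4
      have e1 : pw c x3 * pw c y3 * (pw d x4 * pw d y4) = pw c x3 * pw d x4 * (pw c y3 * pw d y4) :=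
        (pw_comm hcd y3 x4).mul_mul_mul_comm _ _
      have e2 : pw b x2 * pw b y2 * (pw c x3 * pw d x4 * (pw c y3 * pw d y4)) =
          pw b x2 * (pw c x3 * pw d x4) * (pw b y2 * (pw c y3 * pw d y4)) :=
        ((pw_comm hbc y2 x3).mul_right (pw_comm hbd y2 x4)).mul_mul_mul_comm _ _
      have e3 : pw a x1 * pw a y1 * (pw b x2 * (pw c x3 * pw d x4) * (pw b y2 * (pw c y3 * pw d y4))) =
          pw a x1 * (pw b x2 * (pw c x3 * pw d x4)) * (pw a y1 * (pw b y2 * (pw c y3 * pw d y4))) :=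
        ((pw_comm hab y1 x2).mul_right ((pw_comm hac y1 x3).mul_right (pw_comm had y1 x4))).mul_mul_mul_comm _ _
      rw [e1, e2, e3])
  refine Rk4.of_hom (A := Multiplicative (ZMod 2 × ZMod 2 × ZMod 2 × ZMod 2)) ?_ f ?_ ?_
  · intro e
    have h2 : ∀ a : ZMod 2, a + a = 0 := by decide
    apply Multiplicative.toAdd.injective
    change Multiplicative.toAdd e + Multiplicative.toAdd e = 0
    exact Prod.ext (h2 _) (Prod.ext (h2 _) (Prod.ext (h2 _) (h2 _)))
  · rw [injective_iff_map_eq_one]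
    intro e he
    obtain ⟨h1, h2, h3, h4⟩ := ind _ _ _ _ he
    exact Multiplicative.toAdd.injective
      (Prod.ext h1 (Prod.ext h2 (Prod.ext h3 h4)))
  · rw [Nat.card_eq_fintype_card]
    exact le_of_eq (by rfl)

/-! ### `M₂₂` -/

open Cfsg.Agent.GH.LowRankMathieu Cfsg.Agent.J4Type.CocodeMask Cfsg.Agent.SporadicA.GolayPerm
  Cfsg.Agent.SporadicA.GolayBase in
theorem rk4_M22 : Rk4 Spor.M22 := by
  refine Rk4.of_four (a := gA) (b := gB) (c := gC) (d := gD)
    (tA.sq (by decide +kernel)) (tB.sq (by decide +kernel)) (tC.sq (by decide +kernel)) (tD.sq (by decide +kernel))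
    (tA.comm tB (by decide +kernel)) (tA.comm tC (by decide +kernel)) (tA.comm tD (by decide +kernel))
    (tB.comm tC (by decide +kernel)) (tB.comm tD (by decide +kernel)) (tC.comm tD (by decide +kernel)) ?_
  intro x y z w h
  have h1 := (isT_ite tA x).mul ((isT_ite tB y).mul ((isT_ite tC z).mul (isT_ite tD w)))
  have h0 : (if x = 0 then 1 else gA) * ((if y = 0 then 1 else gB) * ((if z = 0 then 1 else gC) *
      (if w = 0 then 1 else gD))) = (1 : Spor.M22) := h
  rw [h0] at h1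
  have h2 := h1 (some 1)
  apply indep x y z w
  have e : idx (some 1 : GolayPt) = 1 := by decide +kernel
  rw [e] at h2
  rw [← h2]
  exact e

/-- **`M₂₂`** -/
theorem rk4_isoM22 {T : Type*} [Group T] (h : Spor.IsoM22 T) : Rk4 T := by
  obtain ⟨e⟩ := h
  exact rk4_M22.congr e

end Cfsg.Agent.H783.EX
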